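import Mathlib
import Cfsg.Agent.KFacts.RgdOwn
import Cfsg.Agent.Nodes.NormalForm
import Cfsg.Agent.Mrg.Omega.EH3.Kf.Base
import Cfsg.Agent.Nodes.SimplyLaced
import Cfsg.Agent.KFacts.RgdSL
import Cfsg.Agent.Nodes.SubComb
import Cfsg.Agent.Nodes.RootsA
import Cfsg.Agent.Nodes.TypeD
import Cfsg.Agent.Nodes.Unique
import Cfsg.Agent.KFacts.ChevTwoSys
import Cfsg.Agent.Nodes.KindBC

section


/-!
The group `P_r = ⟨X a : ⟨a, r^∨⟩ ≥ 0⟩` is perfect (ODD, D10), simply laced, characteristic 2, `|X_a| > 2`.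

* `le_comm_of_comm` : `X (x + y) ≤ ⁅P, P⁆` if `X x, X y ≤ P` (`A₂`-pair);
* `le_comm_of_tor` : `X x ≤ ⁅P, P⁆` if `X x, X (-x) ≤ P`;
* `Ge_perfect`; `GG_perfect`.
-/

set_option autoImplicit false
set_option linter.unusedSectionVars false

namespace Cfsg.Agent.KFacts.RgdPerf

open CoxeterSystem Cfsg.Agent.ChevalleyStructure.CoxeterGeom Cfsg.Agent.Tits.Roots Cfsg.Agent.Tits.Core
  Cfsg.Agent.Tits.RootComb Cfsg.Agent.Tits.Exchange Cfsg.Agent.Nodes.Reps Cfsg.Agent.Nodes.BNOf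
  Cfsg.Agent.Nodes.StabComb Cfsg.Agent.Nodes.Bruhat Cfsg.Agent.Nodes.OppDec Cfsg.Agent.Nodes.LeviDec
  Cfsg.Agent.Nodes.NormX Cfsg.Agent.Nodes.Coroot Cfsg.Agent.Nodes.PosPair Cfsg.Agent.KFacts.RgdPar
  Cfsg.Agent.KFacts.RgdSL Cfsg.Agent.KFacts.RgdTI
open scoped commutatorElement

variable {I W Y : Type*} [Fintype I] [DecidableEq I] [Group W] [Group Y] {M : CoxeterMatrix I}
  {cs : CoxeterSystem M W} {A : I → I → ℤ} {h : IsCartan M A} {p : ℕ} {T : Subgroup Y} {n : I → Y}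
  {X : (I → ℤ) → Subgroup Y} (R : RGD cs h p T n X) [Finite W]

include R

theorem exists_ne {x : I → ℤ} (hx : IsRoot cs h x) : ∃ a ∈ X x, a ≠ 1 := by
  have := X_ne_bot R hx
  rw [Subgroup.ne_bot_iff_exists_ne_one] at this
  obtain ⟨⟨a, ha⟩, h1⟩ := this
  exact ⟨a, ha, fun h2 => h1 (Subtype.ext h2)⟩

theorem le_comm_of_comm {x y : I → ℤ} (hA : A2 cs h x y) {P : Subgroup Y} (hx : X x ≤ P) (hy : X y ≤ P) :
    X (x + y) ≤ ⁅P, P⁆ := by
  intro w hw
  obtain ⟨u, hu, hu1⟩ := exists_ne R hA.rx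
  obtain ⟨v, hv, rfl⟩ := A2.comm_surj R hA hu hu1 hw
  exact Subgroup.commutator_mem_commutator (hx hu) (hy hv)

/-- Transitive action of `T₀ ≤ P` on `X x \ 1`, `|X x| > 2`. -/
theorem le_comm_of_trans {x : I → ℤ} {P T₀ : Subgroup Y} (hT : T₀ ≤ P) (hx : X x ≤ P)
    (h2 : ∀ u ∈ X x, u * u = 1) (h3 : ∀ w ∈ X x, ∃ u ∈ X x, u ≠ 1 ∧ u ≠ w)
    (htr : ∀ u ∈ X x, u ≠ 1 → ∀ u' ∈ X x, u' ≠ 1 → ∃ t ∈ T₀, t * u * t⁻¹ = u') : X x ≤ ⁅P, P⁆ := by
  intro w hw
  obtain ⟨u, hu, hu1, huw⟩ := h3 w hw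
  have h4 : w * u ≠ 1 := by
    intro h5
    apply huw
    have h6 := h2 u hu
    exact (mul_right_cancel (h6.trans h5.symm))
  obtain ⟨t, ht, e⟩ := htr u hu hu1 (w * u) (mul_mem hw hu) h4
  have h5 : w = ⁅t, u⁆ := by
    rw [commutatorElement_def, e]; group
  rw [h5]
  exact Subgroup.commutator_mem_commutator (hT ht) (hx hu)

theorem le_comm_of_tor {x y : I → ℤ} (hA : A2 cs h x y) [Finite (X x)] (h2x : ∀ u ∈ X x, u * u = 1)
    (h2y : ∀ v ∈ X y, v * v = 1) (Tab : ∀ t ∈ T, ∀ t' ∈ T, t * t' = t' * t)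
    (h3 : ∀ w ∈ X x, ∃ u ∈ X x, u ≠ 1 ∧ u ≠ w) {P : Subgroup Y} (hx : X x ≤ P) (hx' : X (-x) ≤ P) :
    X x ≤ ⁅P, P⁆ :=
  le_comm_of_trans R (T₀ := T ⊓ (X x ⊔ X (-x))) (le_trans inf_le_right (sup_le hx hx')) hx h2x h3
    fun _ hu hu1 _ hu' hu1' => A2.own_trans R hA h2x h2y Tab hu hu1 hu' hu1'

/-- **`P_r` is perfect.** -/
theorem Ge_perfect [Finite Y] (R : RGD cs h 2 T n X) (hs : SL cs h) (Tab : ∀ t ∈ T, ∀ t' ∈ T, t * t' = t' * t)
    {r : I → ℤ} (hr : IsRoot cs h r)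
    (hbig : ∀ b, IsRoot cs h b → ∀ w ∈ X b, ∃ u ∈ X b, u ≠ 1 ∧ u ≠ w)
    (hnb : ∀ b, IsRoot cs h b → ∃ a, IsRoot cs h a ∧ cpr cs h a b = 1)
    (h60 : ∀ b, IsRoot cs h b → cpr cs h b r = 1 → ∃ m, IsRoot cs h m ∧ cpr cs h m r = 1 ∧ cpr cs h m b = 1) :
    RGD.Sup X (Ge cs h r) ≤ ⁅RGD.Sup X (Ge cs h r), RGD.Sup X (Ge cs h r)⁆ := by
  have : Fact (Nat.Prime 2) := ⟨Nat.prime_two⟩
  have h2 : ∀ b, IsRoot cs h b → ∀ u ∈ X b, u * u = 1 := by
    intro b hb u hu
    obtain ⟨a, ha, hab⟩ := hnb b hb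
    have h1 := RgdEx.elementary R (hs.a2 ha.neg hb (by rw [cpr_neg_left _ hb, hab])) hu
    rwa [pow_two] at h1
  have hle : ∀ b, IsRoot cs h b → 0 ≤ cpr cs h b r → X b ≤ RGD.Sup X (Ge cs h r) := fun b hb h0 =>
    RGD.le_Sup (S := Ge cs h r) ⟨hb, h0⟩
  refine RGD.Sup_le fun b hb => ?_
  rcases hs.cases hb.1 hr with ⟨h1, -⟩ | ⟨-, h1⟩ | ⟨-, -, h1, h1'⟩
  · subst h1
    obtain ⟨a, ha, hab⟩ := hnb b hb.1
    have hba : cpr cs h b a = 1 := by rw [hs b a hb.1 ha, hab]
    have hd := isRoot_sub hb.1 ha hba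
    have hc : cpr cs h (b - a) a = -1 := by
      rw [sub_eq_add_neg, cpr_add cs h _ _ ha, cpr_neg cs h _ ha, hba, cpr_self cs h ha]; norm_num
    have hc' : cpr cs h (b - a) b = 1 := by
      rw [sub_eq_add_neg, cpr_add cs h _ _ hb.1, cpr_neg cs h _ hb.1, hab, cpr_self cs h hb.1]; norm_num
    have h3 := le_comm_of_comm R (hs.a2 hd ha hc) (hle _ hd (by rw [hc']; norm_num)) (hle a ha (by rw [hab]; norm_num))
    rwa [sub_add_cancel] at h3
  · exact absurd hb.2 (by rw [h1]; norm_num)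
  · have h0 := hb.2
    rcases (by omega : cpr cs h b r = 0 ∨ cpr cs h b r = 1) with h3 | h3
    · obtain ⟨a, ha, hab⟩ := hnb b hb.1
      have hba : cpr cs h b (-a) = -1 := by rw [cpr_neg_right cs h _ ha, hs b a hb.1 ha, hab]
      exact le_comm_of_tor R (hs.a2 hb.1 ha.neg hba) (h2 b hb.1) (h2 _ ha.neg) Tab (hbig b hb.1) (hle b hb.1 hb.2)
        (hle _ hb.1.neg (by rw [cpr_neg cs h _ hr, h3]; norm_num))
    · obtain ⟨m, hm, hmr, hmb⟩ := h60 b hb.1 h3
      have hbm : cpr cs h b m = 1 := by rw [hs b m hb.1 hm, hmb]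
      have hd := isRoot_sub hb.1 hm hbm
      have hc : cpr cs h (b - m) m = -1 := by
        rw [sub_eq_add_neg, cpr_add cs h _ _ hm, cpr_neg cs h _ hm, hbm, cpr_self cs h hm]; norm_num
      have hc' : cpr cs h (b - m) r = 0 := by
        rw [sub_eq_add_neg, cpr_add cs h _ _ hr, cpr_neg cs h _ hr, h3, hmr]; norm_num
      have h4 := le_comm_of_comm R (hs.a2 hd hm hc) (hle _ hd hc'.ge) (hle m hm (by rw [hmr]; norm_num))
      rwa [sub_add_cancel] at h4

end Cfsg.Agent.KFacts.RgdPerf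

end

section


/-!
# EH3, Lie rows in characteristic 2: (D) of blueprints/OMEGA-EH3-KF3-helper227.md (helper134)

* `CommGen` : the non-simple positive root groups lie in `⁅U, U⁆`;
* `comm_of_gen` : this holds if the simple root groups generate `U`; `comm_of_sl` : if the root system is simply laced;
* `csum K r` : the coefficient sum of `r` on `K`;
* `csum_le_one` (D): `O_2(P_J)` abelian, simply laced `⟹ csum K r ≤ 1` for all positive roots;
* `exists_full` : a root with full support (connected diagram); `subsingleton` : `K` has at most one element;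
* `one_node` : for a simply laced `Row` with connected diagram: `Mv ρ n a = {i}`, `X0 = V_{i}ᶜ`, all coefficients at
  `i` are at most `1`.
-/

set_option autoImplicit false
set_option linter.unusedSectionVars false

namespace Cfsg.Agent.Omega.EH3.Kf.Lev

open CoxeterSystem Cfsg.Agent.ChevalleyStructure.CoxeterGeom Cfsg.Agent.Tits.Roots Cfsg.Agent.Tits.Core
  Cfsg.Agent.Tits.RootComb Cfsg.Agent.Tits.Exchange Cfsg.Agent.Nodes.Reps Cfsg.Agent.Nodes.BNOf
  Cfsg.Agent.Nodes.StabComb Cfsg.Agent.Nodes.Bruhat Cfsg.Agent.Nodes.OppDec Cfsg.Agent.Nodes.LeviDec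
  Cfsg.Agent.Nodes.Coroot Cfsg.Agent.Nodes.PosPair Cfsg.Agent.KFacts.RgdSL Cfsg.Agent.KFacts.RgdPerf
  Cfsg.Agent.Omega.EH3.Kf.Base
open scoped commutatorElement Classical

variable {I W Y : Type*} [Fintype I] [DecidableEq I] [Group W] [Group Y] {M : CoxeterMatrix I}
  {cs : CoxeterSystem M W} {A : I → I → ℤ} {h : IsCartan M A} {p : ℕ} {T : Subgroup Y} {n : I → Y}
  {X : (I → ℤ) → Subgroup Y}

/-- The non-simple positive root groups are in the commutator subgroup of `U`. -/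
def CommGen (cs : CoxeterSystem M W) (h : IsCartan M A) (X : (I → ℤ) → Subgroup Y) : Prop :=
  ∀ r, IsRoot cs h r → 0 ≤ r → (∀ i, r ≠ sr i) →
    X r ≤ ⁅RGD.Sup X (RGD.Pos cs h), RGD.Sup X (RGD.Pos cs h)⁆

/-! ### Non-simple root groups -/

/-- subtraction of a simple root in the simply laced case -/
theorem exists_sub [Finite W] (hs : SL cs h) {r : I → ℤ} (hr : IsRoot cs h r) (h0 : 0 ≤ r) (hns : ∀ i, r ≠ sr i) :
    ∃ i, IsRoot cs h (r - sr i) ∧ 0 ≤ r - sr i ∧ A2 cs h (r - sr i) (sr i) := by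
  have := Fintype.ofFinite W
  obtain ⟨i, hi0, hi⟩ := exists_pairing_pos cs h h0 hr.ne_zero
  have hsr := isRoot_sr cs h i
  have hnn : r ≠ -sr i := by
    intro h1
    have h2 := h0 i
    rw [h1, Pi.neg_apply, sr_self] at h2
    exact absurd h2 (by simp)
  have h1 := (hs.abs_le hr hsr (hns i) hnn).2
  have h2 : cpr cs h r (sr i) = 1 := by
    rw [cpr_sr] at h1 ⊢; omega
  have h3 : IsRoot cs h (r - sr i) := isRoot_sub hr hsr h2
  obtain ⟨k, hki, hk⟩ := exists_coeff hr h0 (hns i)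
  have h4 : 0 ≤ r - sr i := by
    refine nonneg_of_pos_apply h3 (k := k) ?_
    rw [Pi.sub_apply, sr_ne hki]; omega
  refine ⟨i, h3, h4, hs.a2 h3 hsr ?_⟩
  have h5 := cpr_add cs h (r - sr i) (sr i) hsr
  rw [sub_add_cancel, h2, cpr_self cs h hsr] at h5
  omega

/-- The simply laced case. -/
theorem comm_of_sl (R : RGD cs h p T n X) [Finite W] (hs : SL cs h) : CommGen cs h X := by
  intro r hr h0 hns
  obtain ⟨i, h1, h2, h3⟩ := exists_sub hs hr h0 hns
  have := le_comm_of_comm R h3 (P := RGD.Sup X (RGD.Pos cs h)) (RGD.le_Sup ⟨h1, h2⟩)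
    (RGD.le_Sup ⟨isRoot_sr cs h i, sr_nonneg i⟩)
  rwa [sub_add_cancel] at this

/-- `⁅U, U⁆ ≤ ⁅X_i, X_i⁆ V_i` -/
theorem comm_le (R : RGD cs h p T n X) [Finite W] (i : I) :
    ⁅RGD.Sup X (RGD.Pos cs h), RGD.Sup X (RGD.Pos cs h)⁆ ≤ ⁅X (sr i), X (sr i)⁆ ⊔ RGD.Sup X (RGD.PosNe cs h i) := by
  set V : Subgroup Y := RGD.Sup X (RGD.PosNe cs h i) with hV
  have hn : X (sr i) ≤ Subgroup.normalizer (V : Set Y) := R.X_le_normalizer_V i
  have hdec : ∀ a ∈ RGD.Sup X (RGD.Pos cs h), ∃ x ∈ X (sr i), ∃ v ∈ V, a = x * v := by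
    intro a ha
    rw [R.Upos_eq i] at ha
    have h1 : a ∈ ((X (sr i) ⊔ V : Subgroup Y) : Set Y) := ha
    rw [Subgroup.coe_mul_of_left_le_normalizer_right _ _ hn, Set.mem_mul] at h1
    obtain ⟨x, hx, v, hv, e⟩ := h1
    exact ⟨x, hx, v, hv, e.symm⟩
  have hc : ∀ g ∈ X (sr i), ∀ v ∈ V, g * v * g⁻¹ ∈ V := fun g hg v hv =>
    (Subgroup.mem_normalizer_iff.1 (hn hg) v).1 hv
  rw [Subgroup.commutator_le]
  intro a ha b hb
  obtain ⟨x, hx, v, hv, rfl⟩ := hdec a ha
  obtain ⟨x', hx', v', hv', rfl⟩ := hdec b hb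
  have e : ⁅x * v, x' * v'⁆ = (x * v * x⁻¹) * ((x * x') * (v' * v⁻¹) * (x * x')⁻¹) *
      ((x * x' * x⁻¹) * v'⁻¹ * (x * x' * x⁻¹)⁻¹) * ⁅x, x'⁆ := by
    rw [commutatorElement_def, commutatorElement_def]; group
  rw [e]
  refine mul_mem (Subgroup.mem_sup_right (mul_mem (mul_mem (hc _ hx _ hv) (hc _ (mul_mem hx hx') _
    (mul_mem hv' (inv_mem hv)))) (hc _ (mul_mem (mul_mem hx hx') (inv_mem hx)) _ (inv_mem hv')))) ?_
  exact Subgroup.mem_sup_left (Subgroup.commutator_mem_commutator hx hx')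

/-- If the simple root groups generate `U`, the other root groups are in `⁅U, U⁆`. -/
theorem comm_of_gen (R : RGD cs h p T n X) [Finite W]
    (hgen : RGD.Sup X (RGD.Pos cs h) ≤ ⨆ i, X (sr i)) : CommGen cs h X := by
  set U : Subgroup Y := RGD.Sup X (RGD.Pos cs h) with hU
  set C : Subgroup Y := ⁅U, U⁆ with hC
  have hCU : C ≤ U := Subgroup.commutator_le_self U
  have hXU : ∀ i, X (sr i) ≤ U := fun i => RGD.le_Sup ⟨isRoot_sr cs h i, sr_nonneg i⟩
  intro r hr h0 hns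
  -- removing the simple root groups one by one
  have key : ∀ S : Finset I, X r ≤ C ⊔ ⨆ j : {j : I // j ∉ S}, X (sr j.1) := by
    intro S
    induction S using Finset.induction_on with
    | empty =>
      refine le_trans (RGD.le_Sup (S := RGD.Pos cs h) ⟨hr, h0⟩) (le_trans hgen (le_sup_of_le_right ?_))
      exact iSup_le fun i => le_iSup (fun j : {j : I // j ∉ (∅ : Finset I)} => X (sr j.1)) ⟨i, by simp⟩
    | insert i S hi ih =>
      set H : Subgroup Y := C ⊔ ⨆ j : {j : I // j ∉ insert i S}, X (sr j.1) with hH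
      have hHU : H ≤ U := sup_le hCU (iSup_le fun j => hXU j.1)
      have hnH : X (sr i) ≤ Subgroup.normalizer (H : Set Y) := by
        intro g hg
        have hconj : ∀ g ∈ U, ∀ y ∈ H, g * y * g⁻¹ ∈ H := by
          intro g hg y hy
          have : g * y * g⁻¹ = ⁅g, y⁆ * y := by rw [commutatorElement_def]; group
          rw [this]
          exact mul_mem (Subgroup.mem_sup_left (Subgroup.commutator_mem_commutator hg (hHU hy))) hy
        rw [Subgroup.mem_normalizer_iff]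
        intro y
        refine ⟨hconj g (hXU i hg) y, fun hy => ?_⟩
        have := hconj g⁻¹ (inv_mem (hXU i hg)) _ hy
        have e : g⁻¹ * (g * y * g⁻¹) * g⁻¹⁻¹ = y := by group
        rwa [e] at this
      have hle : C ⊔ ⨆ j : {j : I // j ∉ S}, X (sr j.1) ≤ X (sr i) ⊔ H := by
        refine sup_le (le_sup_of_le_right le_sup_left) (iSup_le fun j => ?_)
        by_cases hj : j.1 = i
        · rw [hj]; exact le_sup_left
        · refine le_sup_of_le_right (le_sup_of_le_right ?_)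
          exact le_iSup (fun j : {j : I // j ∉ insert i S} => X (sr j.1)) ⟨j.1, by simp [hj, j.2]⟩
      -- `H ≤ ⁅X_i, X_i⁆ V_i`
      set V : Subgroup Y := RGD.Sup X (RGD.PosNe cs h i) with hV
      have hHV : H ≤ ⁅X (sr i), X (sr i)⁆ ⊔ V := by
        refine sup_le (comm_le R i) (iSup_le fun j => le_sup_of_le_right (RGD.le_Sup ?_))
        refine ⟨isRoot_sr cs h _, sr_nonneg _, fun h1 => j.2 ?_⟩
        have h2 := congrFun h1 j.1
        by_contra hne
        rw [sr_self, sr_ne (fun h3 => hne (by rw [h3]; simp))] at h2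
        exact one_ne_zero h2
      intro d hd
      have h1 : d ∈ ((X (sr i) ⊔ H : Subgroup Y) : Set Y) := hle (ih hd)
      rw [Subgroup.coe_mul_of_left_le_normalizer_right _ _ hnH, Set.mem_mul] at h1
      obtain ⟨x, hx, y, hy, rfl⟩ := h1
      have hdV : x * y ∈ V := RGD.le_Sup (S := RGD.PosNe cs h i) ⟨hr, h0, hns i⟩ hd
      have h2 : x ∈ ⁅X (sr i), X (sr i)⁆ ⊔ V := by
        have : x = (x * y) * y⁻¹ := by group
        rw [this]
        exact mul_mem (Subgroup.mem_sup_right hdV) (inv_mem (hHV hy))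
      have h3 : x ∈ ((⁅X (sr i), X (sr i)⁆ ⊔ V : Subgroup Y) : Set Y) := h2
      rw [Subgroup.coe_mul_of_left_le_normalizer_right _ _ (le_trans (Subgroup.commutator_le_self _)
        (R.X_le_normalizer_V i)), Set.mem_mul] at h3
      obtain ⟨c, hc, v, hv, e⟩ := h3
      have hcX : c ∈ X (sr i) := Subgroup.commutator_le_self _ hc
      have h4 : v = 1 := by
        refine eq_one_of_mem_PosNe R (i := i) ?_ hv
        have : v = c⁻¹ * x := by rw [← e]; group
        rw [this]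
        exact mul_mem (inv_mem hcX) hx
      rw [h4, mul_one] at e
      subst e
      exact mul_mem (Subgroup.mem_sup_left (Subgroup.commutator_mono (hXU i) (hXU i) hc)) hy
  refine le_trans (key Finset.univ) (sup_le le_rfl (iSup_le fun j => absurd (Finset.mem_univ j.1) j.2))

/-! ### (D) -/

/-- the coefficient sum on `K` -/
noncomputable def csum (K : Set I) (r : I → ℤ) : ℤ := ∑ k, if k ∈ K then r k else 0

theorem csum_sub (K : Set I) (r s : I → ℤ) : csum K (r - s) = csum K r - csum K s := by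
  unfold csum
  rw [← Finset.sum_sub_distrib]
  refine Finset.sum_congr rfl fun k _ => ?_
  split_ifs <;> simp

theorem csum_sr (K : Set I) (i : I) : csum K (sr i) = if i ∈ K then 1 else 0 := by
  unfold csum
  rw [Finset.sum_eq_single i]
  · rw [sr_self]
  · intro k _ hk
    rw [sr_ne hk]; simp
  · intro h1; exact absurd (Finset.mem_univ i) h1

theorem csum_nonneg {K : Set I} {r : I → ℤ} (h0 : 0 ≤ r) : 0 ≤ csum K r :=
  Finset.sum_nonneg fun k _ => by split_ifs; exacts [h0 k, le_rfl]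

theorem mem_NotJ_of_csum {K : Set I} {r : I → ℤ} (hr : IsRoot cs h r) (h0 : 0 ≤ r) (h1 : 0 < csum K r) :
    r ∈ NotJ cs h Kᶜ := by
  refine ⟨hr, h0, ?_⟩
  by_contra hcon
  push Not at hcon
  have h2 : csum K r = 0 := by
    unfold csum
    refine Finset.sum_eq_zero fun k _ => ?_
    split_ifs with hk
    · exact le_antisymm (hcon k (fun h3 => h3 hk)) (h0 k)
    · rfl
  omega

theorem csum_pos {K : Set I} {r : I → ℤ} (hr : r ∈ NotJ cs h Kᶜ) : 0 < csum K r := by
  obtain ⟨-, h0, k, hk, hk0⟩ := hr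
  have hkK : k ∈ K := not_not.1 hk
  refine lt_of_lt_of_le hk0 ?_
  have h1 := Finset.single_le_sum (s := Finset.univ) (f := fun k => if k ∈ K then r k else 0)
    (fun k _ => by split_ifs; exacts [h0 k, le_rfl]) (Finset.mem_univ k)
  simp only [hkK, if_true] at h1
  exact h1

theorem single_le_csum {K : Set I} {r : I → ℤ} (h0 : 0 ≤ r) {k : I} (hk : k ∈ K) : r k ≤ csum K r := by
  have h1 := Finset.single_le_sum (s := Finset.univ) (f := fun k => if k ∈ K then r k else 0)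
    (fun k _ => by split_ifs; exacts [h0 k, le_rfl]) (Finset.mem_univ k)
  simp only [hk, if_true] at h1
  exact h1

theorem add_le_csum {K : Set I} {r : I → ℤ} (h0 : 0 ≤ r) {k l : I} (hk : k ∈ K) (hl : l ∈ K) (hkl : k ≠ l) :
    r k + r l ≤ csum K r := by
  have h1 := Finset.add_le_sum (s := Finset.univ) (f := fun k => if k ∈ K then r k else 0)
    (fun k _ => by split_ifs; exacts [h0 k, le_rfl]) (Finset.mem_univ k) (Finset.mem_univ l) hkl
  simp only [hk, hl, if_true] at h1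
  exact h1

/-- **(D)** `O_2(P_J)` abelian, simply laced: the coefficient sum on `K = Jᶜ` of every positive root is at most `1`. -/
theorem csum_le_one (R : RGD cs h p T n X) [Finite W] (hs : SL cs h) {K : Set I}
    (hab : ∀ u ∈ VJ cs h X Kᶜ, ∀ v ∈ VJ cs h X Kᶜ, u * v = v * u) {r : I → ℤ} (hr : IsRoot cs h r) (h0 : 0 ≤ r) :
    csum K r ≤ 1 := by
  have key : ∀ (N : ℕ) (r : I → ℤ), IsRoot cs h r → 0 ≤ r → ht r ≤ N → csum K r ≤ 1 := by
    intro N
    induction N with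
    | zero =>
      intro r hr h0 hN
      have := sum_pos h0 hr.ne_zero
      simp only [Nat.cast_zero] at hN
      omega
    | succ N ih =>
      intro r hr h0 hN
      by_cases hns : ∃ i, r = sr i
      · obtain ⟨i, rfl⟩ := hns
        rw [csum_sr]; split_ifs <;> norm_num
      push Not at hns
      obtain ⟨i, h1, h2, h3⟩ := exists_sub hs hr h0 hns
      have hht : ht (r - sr i) ≤ N := by
        have e : ht r = ht (r - sr i) + ht (sr i) := by rw [← RGD.ht_add, sub_add_cancel]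
        have e2 := sum_pos (sr_nonneg i) (sr_ne_zero i)
        push_cast at hN
        omega
      have h4 := ih _ h1 h2 hht
      have h5 := csum_sub K r (sr i)
      rw [csum_sr] at h5
      by_cases hi : i ∈ K
      · rw [if_pos hi] at h5
        by_contra hcon
        have h6 : r - sr i ∈ NotJ cs h Kᶜ := mem_NotJ_of_csum h1 h2 (by omega)
        have h7 : (sr i : I → ℤ) ∈ NotJ cs h Kᶜ := sr_mem_NotJ (fun h8 => h8 hi)
        obtain ⟨w, hw, hw1⟩ := exists_ne R hr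
        obtain ⟨u, hu, hu1⟩ := exists_ne R h1
        obtain ⟨v, hv, e⟩ := A2.comm_surj R h3 hu hu1 (w := w) (by rwa [sub_add_cancel])
        apply hw1
        rw [← e, commutatorElement_eq_one_iff_mul_comm]
        exact hab u (RGD.le_Sup h6 hu) v (RGD.le_Sup h7 hv)
      · rw [if_neg hi] at h5; omega
  obtain ⟨N, hN⟩ := Int.eq_ofNat_of_zero_le (sum_pos h0 hr.ne_zero).le
  exact key N r hr h0 (by rw [hN])

/-- a root with full support -/
theorem exists_full [Finite W] [Nonempty I]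
    (hconn : ∀ J : Set I, J.Nonempty → J ≠ Set.univ → ∃ a ∈ J, ∃ b, b ∉ J ∧ M a b ≠ 2) :
    ∃ r, IsRoot cs h r ∧ ∀ k, 0 < r k := by
  have hfin : (RGD.Pos cs h).Finite := (RGD.finite_roots (cs := cs) (h := h)).subset fun x hx => hx.1
  obtain ⟨i0⟩ := ‹Nonempty I›
  obtain ⟨r, ⟨hr, h0⟩, hmax⟩ := hfin.exists_maximalFor ht _ ⟨sr i0, isRoot_sr cs h i0, sr_nonneg i0⟩
  have hdom : ∀ j, 0 ≤ pairing A j r := by
    intro j
    by_contra hcon
    push Not at hcon
    have hne : r ≠ sr j := by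
      rintro rfl
      have h1 : pairing A j (sr j) = 2 := by
        have h2 := cpr_sr cs h (sr j) j
        rw [cpr_self cs h (isRoot_sr cs h j)] at h2
        exact h2.symm
      omega
    have h1 : rep cs h (cs.simple j) r ∈ RGD.Pos cs h := ⟨hr.act _, hr.simple_nonneg h0 j hne⟩
    have h2 : ht (rep cs h (cs.simple j) r) = ht r - pairing A j r * ht (sr j) := by
      rw [rep_simple_eq, sub_eq_add_neg, ← neg_smul, RGD.ht_add, RGD.ht_smul]; ring
    have h3 := sum_pos (sr_nonneg j) (sr_ne_zero j)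
    have h4 := hmax h1 (by rw [h2]; nlinarith)
    rw [h2] at h4
    nlinarith
  refine ⟨r, hr, fun k => ?_⟩
  by_contra hk
  have hk0 : r k = 0 := le_antisymm (not_lt.1 hk) (h0 k)
  obtain ⟨i1, hi1, -⟩ := by
    have := Fintype.ofFinite W
    exact exists_pairing_pos cs h h0 hr.ne_zero
  obtain ⟨a, ha, b, hb, hM⟩ := hconn {j | 0 < r j} ⟨i1, hi1⟩ (fun h1 => hk (by
    have : k ∈ {j | 0 < r j} := by rw [h1]; trivial
    exact this))
  have hb0 : r b = 0 := le_antisymm (not_lt.1 hb) (h0 b)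
  exact absurd (hdom b) (not_le.2 (pairing_neg h h0 hb0 ha (fun h1 => hM (by rw [M.symmetric]; exact h1))))

/-- `K` has at most one element. -/
theorem subsingleton [Finite W]
    (hconn : ∀ J : Set I, J.Nonempty → J ≠ Set.univ → ∃ a ∈ J, ∃ b, b ∉ J ∧ M a b ≠ 2) {K : Set I}
    (hK : ∀ r, IsRoot cs h r → 0 ≤ r → csum K r ≤ 1) {k l : I} (hk : k ∈ K) (hl : l ∈ K) : k = l := by
  by_contra hkl
  have : Nonempty I := ⟨k⟩
  obtain ⟨r, hr, h0⟩ := exists_full (cs := cs) (h := h) hconn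
  have h1 := hK r hr (fun j => (h0 j).le)
  have h2 := add_le_csum (fun j => (h0 j).le) hk hl hkl
  have h3 := h0 k
  have h4 := h0 l
  omega

/-! ### For a `Row` -/

section Row

variable {V : Type*} [AddCommGroup V] [Module (ZMod 2) V] {ρ : Y →* (V ≃ₗ[ZMod 2] V)}
  {b : LinearMap.BilinForm (ZMod 2) V} {a : V} {D : Submodule (ZMod 2) V} {X0 : Subgroup Y} {w : ℕ}

/-- some node moves `a` -/
theorem exists_mv [Finite W] (R : Row cs h T n X ρ b a D X0 w) : (Mv ρ n a).Nonempty := by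
  by_contra hcon
  rw [Set.not_nonempty_iff_eq_empty] at hcon
  have h1 : Cov.St ρ a = ⊤ := by
    rw [Cov.St_eq R, hcon, Set.compl_empty]
    rw [eq_top_iff, ← R.gen]
    rw [← LJ_univ]
    exact LJ_le_PJ
  have h2 : ∀ g, ρ g a = a := fun g => by
    have : g ∈ Cov.St ρ a := by rw [h1]; trivial
    exact this
  have h3 := R.span
  have h4 : (Set.range fun g => ρ g a) = {a} := by
    ext v
    constructor
    · rintro ⟨g, rfl⟩
      exact h2 g
    · rintro rfl
      exact ⟨1, h2 1⟩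
  rw [h4] at h3
  apply R.a_ne
  apply R.nondeg
  intro u
  have h5 : u ∈ Submodule.span (ZMod 2) {a} := by rw [h3]; trivial
  obtain ⟨c, rfl⟩ := Submodule.mem_span_singleton.1 h5
  rw [map_smul, R.b_self, smul_zero]

/-- **(C) + (D) for a simply laced row with connected diagram.** -/
theorem one_node [Finite W] [Finite Y] (R : Row cs h T n X ρ b a D X0 w) (hs : SL cs h)
    (hconn : ∀ J : Set I, J.Nonempty → J ≠ Set.univ → ∃ a ∈ J, ∃ b, b ∉ J ∧ M a b ≠ 2) :
    ∃ i, Mv ρ n a = {i} ∧ X0 = VJ cs h X {i}ᶜ ∧ ∀ r, IsRoot cs h r → 0 ≤ r → r i ≤ 1 := by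
  have hC : X0 = VJ cs h X (Mv ρ n a)ᶜ :=
    Cov.eq_VJ R (fun u hu => ThmA.thmA R.core le_rfl u hu) (comm_of_sl R.rgd hs)
  have hD : ∀ r, IsRoot cs h r → 0 ≤ r → csum (Mv ρ n a) r ≤ 1 := fun r hr h0 =>
    csum_le_one R.rgd hs (K := Mv ρ n a) (by
      rw [← hC]
      exact fun u hu v hv => Cov.comm_X0 R hu hv) hr h0
  obtain ⟨i, hi⟩ := exists_mv R
  have hK : Mv ρ n a = {i} := by
    ext j
    exact ⟨fun hj => subsingleton hconn hD hj hi, by rintro rfl; exact hi⟩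
  refine ⟨i, hK, by rw [← hK]; exact hC, fun r hr h0 => ?_⟩
  exact le_trans (single_le_csum h0 hi) (hD r hr h0)

end Row

end Cfsg.Agent.Omega.EH3.Kf.Lev

end

section


/-!
# EH3, Lie rows in characteristic 2: (E) of blueprints/OMEGA-EH3-KF3-helper227.md (helper134)

* `exists_cell` : some `k` over some `w` has `b a (k a) = 1`;
* `opp` (E): if `X r ≤ X0` for the roots `r` of `V_J`, then `w⁻¹` maps them to negatives of such roots.
-/

set_option autoImplicit false
set_option linter.unusedSectionVars false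

namespace Cfsg.Agent.Omega.EH3.Kf.Opp

open CoxeterSystem Cfsg.Agent.ChevalleyStructure.CoxeterGeom Cfsg.Agent.Tits.Roots Cfsg.Agent.Tits.Core
  Cfsg.Agent.Tits.RootComb Cfsg.Agent.Tits.Exchange Cfsg.Agent.Nodes.Reps Cfsg.Agent.Nodes.BNOf
  Cfsg.Agent.Nodes.StabComb Cfsg.Agent.Nodes.Bruhat Cfsg.Agent.Nodes.OppDec Cfsg.Agent.Nodes.LeviDec
  Cfsg.Agent.Nodes.Coroot Cfsg.Agent.Nodes.PosPair Cfsg.Agent.KFacts.RgdSL Cfsg.Agent.KFacts.RgdPerf
  Cfsg.Agent.Omega.EH3.Kf.Base Cfsg.Agent.Omega.EH3.Kf.Nm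
open scoped commutatorElement

variable {I W Y V : Type*} [Fintype I] [DecidableEq I] [Group W] [Group Y] [AddCommGroup V] [Module (ZMod 2) V]
  {M : CoxeterMatrix I} {cs : CoxeterSystem M W} {A : I → I → ℤ} {h : IsCartan M A} {T : Subgroup Y} {n : I → Y}
  {X : (I → ℤ) → Subgroup Y} {ρ : Y →* (V ≃ₗ[ZMod 2] V)}
  {b : LinearMap.BilinForm (ZMod 2) V} {a : V} {D : Submodule (ZMod 2) V} {X0 : Subgroup Y} {w0 : ℕ}

/-- some `k` over some `w` moves `a` off `a^⊥` -/
theorem exists_cell [Finite W] (R : Row cs h T n X ρ b a D X0 w0) :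
    ∃ w k, Rp cs R.rgd.nsys w k ∧ b a (ρ k a) = 1 := by
  have h1 : ∃ g, b a (ρ g a) ≠ 0 := by
    by_contra hcon
    push Not at hcon
    apply R.a_ne
    apply R.nondeg
    intro u
    have hu : u ∈ Submodule.span (ZMod 2) (Set.range fun g => ρ g a) := by rw [R.span]; trivial
    induction hu using Submodule.span_induction with
    | mem x hx => obtain ⟨g, rfl⟩ := hx; exact hcon g
    | zero => exact map_zero _
    | add x y _ _ h1 h2 => rw [map_add, h1, h2, add_zero]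
    | smul c x _ h1 => rw [map_smul, h1, smul_zero]
  obtain ⟨g, hg⟩ := h1
  obtain ⟨w, b₁, hb₁, k, hk, b₂, hb₂, rfl⟩ := (mem_GG R.rgd).1 (show g ∈ GG cs h T X by rw [R.gen]; trivial)
  refine ⟨w, k, hk, ?_⟩
  have h2 : b a (ρ (b₁ * k * b₂) a) = b a (ρ k a) := by
    have h3 := R.b_inv b₁ a (ρ k a)
    rw [R.fixB b₁ hb₁] at h3
    rw [rho_mul, rho_mul, R.fixB b₂ hb₂, h3]
  rw [h2] at hg
  have h4 : ∀ c : ZMod 2, c ≠ 0 → c = 1 := by decide
  exact h4 _ hg

theorem PJ_fix [Finite W] (R : Row cs h T n X ρ b a D X0 w0) {g : Y} (hg : g ∈ PJ cs h T X (Mv ρ n a)ᶜ) :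
    ρ g a = a := by
  rw [← Cov.St_eq R] at hg
  exact hg

/-- **(E)** -/
theorem opp [Finite W] (R : Row cs h T n X ρ b a D X0 w0)
    {S : Set (I → ℤ)} (hS : ∀ r ∈ S, IsRoot cs h r ∧ ∃ u ∈ X r, u ∈ X0 ∧ u ≠ 1) :
    ∃ w k, Rp cs R.rgd.nsys w k ∧ b a (ρ k a) = 1 ∧
      ∀ r ∈ S, -(rep cs h w⁻¹ r) ∈ NotJ cs h (Mv ρ n a)ᶜ := by
  obtain ⟨w, k, hk, h1⟩ := exists_cell R
  refine ⟨w, k, hk, h1, fun r hr => ?_⟩
  obtain ⟨hrr, u, hu, hu0, hu1⟩ := hS r hr
  set z : I → ℤ := rep cs h w⁻¹ r with hz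
  have hzr : IsRoot cs h z := hrr.act _
  have h2 : k⁻¹ * u * k ∈ X z := R.rgd.conj_mem' hk hrr hu
  -- `X z` does not fix `a`
  have h3 : ρ (k⁻¹ * u * k) a ≠ a := by
    intro h4
    apply hu1
    refine R.semi u hu0 _ h1 ?_
    have h5 : u * k = k * (k⁻¹ * u * k) := by group
    rw [← rho_mul, h5, rho_mul, h4]
  have h4 : ¬ X z ≤ PJ cs h T X (Mv ρ n a)ᶜ := fun h5 => h3 (PJ_fix R (h5 h2))
  rcases hzr.pos_or_neg with h5 | h5
  · exact absurd (le_trans (RGD.X_le_B hzr h5) B_le_PJ) h4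
  · rcases mem_PosJ_or_NotJ (Mv ρ n a)ᶜ hzr.neg (neg_nonneg.2 h5) with h6 | h6
    · exfalso
      apply h4
      have h7 : z ∈ RootsJ cs h (Mv ρ n a)ᶜ := by
        have := RootsJ.neg (PosJ_subset _ h6)
        rwa [neg_neg] at this
      exact le_trans (X_le_LJ h7) LJ_le_PJ
    · exact h6

end Cfsg.Agent.Omega.EH3.Kf.Opp

end

section


/-!
# EH3, Lie rows in characteristic 2: the combinatorial interface (helper827; blueprints/OMEGA-EH3-KF3-helper227.md)

* `NodeOK cs h i m` : (D), (E), (F) for the node `i` and `q = 2 ^ m`;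
* `Killed`, `Kills` : every triple of roots with coefficient one at `i` is killed by a root of `Φ_J` (G);
* `cpr_of_add` : in a simply laced root system `⟨x, y^∨⟩ = -1` if `x + y` is a root.
-/

set_option autoImplicit false
set_option linter.unusedSectionVars false

namespace Cfsg.Agent.Omega.EH3.Kf.Node

open CoxeterSystem Cfsg.Agent.ChevalleyStructure.CoxeterGeom Cfsg.Agent.Tits.Roots Cfsg.Agent.Tits.Core
  Cfsg.Agent.Tits.RootComb Cfsg.Agent.Nodes.Comb Cfsg.Agent.Nodes.Coroot Cfsg.Agent.KFacts.RgdSL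
  Cfsg.Agent.Nodes.Reps Cfsg.Agent.Nodes.PosPair

variable {I W : Type*} [Fintype I] [DecidableEq I] [Group W] {M : CoxeterMatrix I}

/-- The conclusions (D), (E), (F) for the node `i` moving `a`; `q = 2 ^ m`. -/
structure NodeOK (cs : CoxeterSystem M W) {A : I → I → ℤ} (h : IsCartan M A) (i : I) (m : ℕ) : Prop where
  le_one : ∀ x, IsRoot cs h x → x i ≤ 1
  opp : ∃ w : W, ∀ x, IsRoot cs h x → x i = 1 → (rep cs h w x) i = -1
  orth : ∀ s : Finset (I → ℤ), (∀ x ∈ s, IsRoot cs h x ∧ x i = 1) →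
    (∀ x ∈ s, ∀ y ∈ s, x ≠ y → ¬ IsRoot cs h (x - y)) → m * s.card ≤ 3

/-- The triple `α, β, ε` is killed by a root element of `Φ_J` through `β`. -/
def Killed (cs : CoxeterSystem M W) {A : I → I → ℤ} (h : IsCartan M A) (i : I) (α β ε : I → ℤ) : Prop :=
  ∃ δ, IsRoot cs h δ ∧ δ i = 0 ∧ IsRoot cs h (β - δ) ∧ (IsRoot cs h (α + δ) → α + δ = ε) ∧
    (IsRoot cs h (ε + δ) → ε + δ = α)

/-- Every triple is killed. -/
def Kills (cs : CoxeterSystem M W) {A : I → I → ℤ} (h : IsCartan M A) (i : I) : Prop :=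
  ∀ α β ε, IsRoot cs h α → IsRoot cs h β → IsRoot cs h ε → α i = 1 → β i = 1 → ε i = 1 → α ≠ β → β ≠ ε → α ≠ ε →
    Killed cs h i α β ε ∨ Killed cs h i β α ε ∨ Killed cs h i α ε β

variable {cs : CoxeterSystem M W} {A : I → I → ℤ} {h : IsCartan M A}

theorem NodeOK.le_three {i : I} {m : ℕ} (N : NodeOK cs h i m) : m ≤ 3 := by
  have h1 := N.orth {sr i} (by
    intro x hx
    rw [Finset.mem_singleton] at hx
    rw [hx]
    exact ⟨isRoot_sr cs h i, sr_self i⟩) (by
    intro x hx y hy hxy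
    rw [Finset.mem_singleton] at hx hy
    exact absurd (hx.trans hy.symm) hxy)
  simpa using h1

/-- In a simply laced root system. -/
theorem cpr_of_add [Finite W] (hs : SL cs h) {x y : I → ℤ} (hx : IsRoot cs h x) (hy : IsRoot cs h y)
    (hxy : IsRoot cs h (x + y)) : cpr cs h x y = -1 := by
  have h1 : x ≠ y := by
    rintro rfl
    have e : (1 : ℤ) • (x + x) = (2 : ℤ) • x := by rw [one_smul, two_smul]
    rcases Nodes.PosPair.eq_or_eq_neg_of_smul cs h hxy hx one_ne_zero e with h2 | h2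
    · exact hx.ne_zero (by simpa using h2)
    · have h3 : (3 : ℤ) • x = 0 := by
        have : (3 : ℤ) • x = (x + x) + x := by module
        rw [this, h2, neg_add_cancel]
      exact hx.ne_zero ((smul_eq_zero.1 h3).resolve_left (by norm_num))
  have h2 : x ≠ -y := by
    rintro rfl
    rw [neg_add_cancel] at hxy
    exact hxy.ne_zero rfl
  exact (hs.btwn hx hy h1 h2 ⟨hxy, 1, 1, 1, one_pos, one_pos, one_pos, by rw [one_smul, one_smul, one_smul]⟩).1

theorem nonneg_of_not_add [Finite W] (hs : SL cs h) {x y : I → ℤ} (hx : IsRoot cs h x) (hy : IsRoot cs h y)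
    (h2 : x ≠ -y) (hxy : ¬ IsRoot cs h (x + y)) : 0 ≤ cpr cs h x y := by
  rcases hs.cases hx hy with h3 | h3 | h3
  · omega
  · exact absurd h3.1 h2
  · by_contra h4
    exact hxy (isRoot_add hx hy (by omega))

end Cfsg.Agent.Omega.EH3.Kf.Node

end

section


/-!
# EH3, Lie rows in characteristic 2: (F) of blueprints/OMEGA-EH3-KF3-helper227.md (helper134)

* `Lv a b D k v` : the filtration `V ≥ a^⊥ ≥ D ≥ ⟨a⟩ ≥ 0`; `lv_dl` : `x - 1` goes one step down for `x ∈ X0`;
* `lv_nm` : the norm of a subgroup of order `2 ^ m` of `X0` goes `m` steps down;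
* `exists_m` : `∃ m ∈ ⟨X b, X (-b)⟩, Nm (X b) (m a) = a` for `b` conjugate under `W_J` to a moved node;
* `sum_le_three` (F): commuting root groups `X b ≤ X0` of this kind: the sum of the ranks is at most `3`;
* `exists_conj` : simply laced, all coefficients at `i` at most `1`: every root with `x i = 1` is `W_J`-conjugate to
  `α_i`;
* `nodeOK` : the result (C), (D), (E), (F) for simply laced rows.
-/

set_option autoImplicit false
set_option linter.unusedSectionVars false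

namespace Cfsg.Agent.Omega.EH3.Kf.Orth

open CoxeterSystem Cfsg.Agent.ChevalleyStructure.CoxeterGeom Cfsg.Agent.Tits.Roots Cfsg.Agent.Tits.Core
  Cfsg.Agent.Tits.RootComb Cfsg.Agent.Tits.Exchange Cfsg.Agent.Nodes.Reps Cfsg.Agent.Nodes.BNOf
  Cfsg.Agent.Nodes.StabComb Cfsg.Agent.Nodes.Bruhat Cfsg.Agent.Nodes.OppDec Cfsg.Agent.Nodes.LeviDec
  Cfsg.Agent.Nodes.Coroot Cfsg.Agent.Nodes.PosPair Cfsg.Agent.KFacts.RgdSL Cfsg.Agent.KFacts.RgdPerf
  Cfsg.Agent.Nodes.SubComb
  Cfsg.Agent.Omega.EH3.Kf.Base Cfsg.Agent.Omega.EH3.Kf.Nm Cfsg.Agent.Omega.EH3.Kf.Node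
open scoped commutatorElement

variable {I W Y V : Type*} [Fintype I] [DecidableEq I] [Group W] [Group Y] [AddCommGroup V] [Module (ZMod 2) V]
  {M : CoxeterMatrix I} {cs : CoxeterSystem M W} {A : I → I → ℤ} {h : IsCartan M A} {T : Subgroup Y} {n : I → Y}
  {X : (I → ℤ) → Subgroup Y} {ρ : Y →* (V ≃ₗ[ZMod 2] V)}
  {b : LinearMap.BilinForm (ZMod 2) V} {a : V} {D : Submodule (ZMod 2) V} {X0 : Subgroup Y} {w0 : ℕ}

/-! ### The filtration -/

/-- `V ≥ a^⊥ ≥ D ≥ ⟨a⟩ ≥ 0` -/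
def Lv (b : LinearMap.BilinForm (ZMod 2) V) (a : V) (D : Submodule (ZMod 2) V) : ℕ → V → Prop
  | 0, _ => True
  | 1, v => b a v = 0
  | 2, v => v ∈ D
  | 3, v => v = 0 ∨ v = a
  | _ + 4, v => v = 0

theorem dl_comp (x : Y) (v : V) : dl ρ x v = ρ x v + v := rfl

theorem lv_dl (R : Row cs h T n X ρ b a D X0 w0) {x : Y} (hx : x ∈ X0) {k : ℕ} {v : V} (hv : Lv b a D k v) :
    Lv b a D (k + 1) (dl ρ x v) := by
  match k, hv with
  | 0, _ => exact R.one x hx v
  | 1, hv => exact R.two x hx v hv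
  | 2, hv => exact R.three x hx v hv
  | 3, hv =>
    show dl ρ x v = 0
    have hx1 : ρ x a = a := R.fixB x (RGD.U_le_B (R.le hx))
    have hvv : ∀ v : V, v + v = 0 := fun v => by
      have : v + v = (2 : ZMod 2) • v := by rw [two_smul]
      rw [this, show (2 : ZMod 2) = 0 from rfl, zero_smul]
    rcases hv with rfl | rfl
    · unfold dl; rw [map_zero, add_zero]
    · unfold dl; rw [hx1, hvv]
  | k + 4, hv =>
    have hv' : v = 0 := hv
    show dl ρ x v = 0
    rw [hv']; unfold dl; rw [map_zero, add_zero]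

/-- the norm of a subgroup of index two -/
theorem nm_index_two [Finite Y] {H H' : Subgroup Y} (hle : H' ≤ H) {x : Y} (hx : x ∈ H) (hx' : x ∉ H')
    (hcov : ∀ g ∈ H, g ∈ H' ∨ x⁻¹ * g ∈ H') (v : V) : Nm ρ H v = dl ρ x (Nm ρ H' v) := by
  classical
  unfold Nm dl
  rw [map_sum]
  have e1 : fs H = fs H' ∪ (fs H').image (fun g => x * g) := by
    ext g
    rw [Finset.mem_union, Finset.mem_image, mem_fs, mem_fs]
    constructor
    · intro hg
      rcases hcov g hg with h1 | h1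
      · exact Or.inl h1
      · exact Or.inr ⟨x⁻¹ * g, mem_fs.2 h1, by group⟩
    · rintro (h1 | ⟨g', h1, rfl⟩)
      · exact hle h1
      · exact mul_mem hx (hle (mem_fs.1 h1))
  have e2 : Disjoint (fs H') ((fs H').image (fun g => x * g)) := by
    rw [Finset.disjoint_left]
    intro g h1 h2
    obtain ⟨g', h3, rfl⟩ := Finset.mem_image.1 h2
    apply hx'
    have : x = (x * g') * g'⁻¹ := by group
    rw [this]
    exact mul_mem (mem_fs.1 h1) (inv_mem (mem_fs.1 h3))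
  rw [e1, Finset.sum_union e2, Finset.sum_image (fun g _ g' _ e => mul_left_cancel e), add_comm]
  congr 1
  exact Finset.sum_congr rfl fun g _ => rho_mul x g v

/-- the norm of a subgroup of order `2 ^ m` of `X0` -/
theorem lv_nm [Finite Y] (R : Row cs h T n X ρ b a D X0 w0) (m : ℕ) : ∀ {H : Subgroup Y}, H ≤ X0 → Nat.card H = 2 ^ m →
    ∀ {k : ℕ} {v : V}, Lv b a D k v → Lv b a D (k + m) (Nm ρ H v) := by
  induction m with
  | zero =>
    intro H _ hc k v hv
    rw [pow_zero, Subgroup.card_eq_one] at hc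
    subst hc
    rw [ThmA.nm_bot]
    exact hv
  | succ m ih =>
    intro H hH hc k v hv
    have : Fact (Nat.Prime 2) := ⟨Nat.prime_two⟩
    obtain ⟨H1, hH1⟩ := Sylow.exists_subgroup_card_pow_prime (G := H) 2 (n := m) (by
      rw [hc]; exact pow_dvd_pow 2 (Nat.le_succ m))
    set H' : Subgroup Y := H1.map H.subtype with hH'
    have hle : H' ≤ H := by rintro x ⟨y, -, rfl⟩; exact y.2
    have hc' : Nat.card H' = 2 ^ m := by
      rw [hH', Subgroup.card_map_of_injective H.subtype_injective, hH1]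
    have hidx : H1.index = 2 := by
      have h1 := H1.card_mul_index
      rw [hH1, hc, pow_succ] at h1
      exact Nat.eq_of_mul_eq_mul_left (by positivity) h1
    have hne : H1 ≠ ⊤ := by
      rintro rfl
      rw [Subgroup.index_top] at hidx
      omega
    obtain ⟨x, hx⟩ : ∃ x, x ∉ H1 := by
      by_contra hcon
      push Not at hcon
      exact hne (eq_top_iff.2 fun x _ => hcon x)
    have hxH' : (x : Y) ∉ H' := by
      rintro ⟨y, hy, e⟩
      exact hx (by rwa [← Subtype.ext e])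
    rw [nm_index_two hle x.2 hxH' ?_ v]
    · have h1 := ih (le_trans hle hH) hc' hv
      have h2 := lv_dl R (hH x.2) h1
      rwa [← add_assoc]
    · intro g hg
      by_cases h1 : (⟨g, hg⟩ : H) ∈ H1
      · exact Or.inl ⟨⟨g, hg⟩, h1, rfl⟩
      · right
        have h2 : x⁻¹ * ⟨g, hg⟩ ∈ H1 := by
          rw [Subgroup.mul_mem_iff_of_index_two hidx]
          constructor
          · intro h3; exact absurd (by simpa using h3) hx
          · intro h3; exact absurd h3 h1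
        exact ⟨_, h2, rfl⟩

/-! ### The elements `m` -/

/-- `m ∈ ⟨X b, X (-b)⟩` with `Nm (X b) (m a) = a` -/
theorem exists_m [Finite W] [Finite Y] (R : Row cs h T n X ρ b a D X0 w0) {v : W} (hv : v ∈ WJ cs (Mv ρ n a)ᶜ) {i : I}
    (hi : i ∈ Mv ρ n a) : ∃ m ∈ X (rep cs h v (sr i)) ⊔ X (-rep cs h v (sr i)),
      Nm ρ (X (rep cs h v (sr i))) (ρ m a) = a := by
  obtain ⟨g, hg⟩ := exists_rp cs R.rgd.nsys v
  have hga : ρ g a = a := Opp.PJ_fix R (LJ_le_PJ (rp_mem_LJ R.rgd hv hg))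
  have hsr := isRoot_sr cs h i
  obtain ⟨u, hu, hu1⟩ := exists_ne R.rgd hsr.neg
  obtain ⟨c, hc, t, ht, d, hd, e⟩ := R.rgd.rk1 i u hu hu1
  have hta : ρ t a = a := R.fixB t (RGD.T_le_B ht)
  have hcj : ∀ z ∈ X (sr i), g * z * g⁻¹ ∈ X (rep cs h v (sr i)) := fun z hz => R.rgd.conj_mem hg hsr hz
  have hcj' : g * u * g⁻¹ ∈ X (-rep cs h v (sr i)) := by
    have := R.rgd.conj_mem hg hsr.neg hu
    rwa [map_neg] at this
  refine ⟨g * (t * n i) * g⁻¹, ?_, ?_⟩
  · have h1 : g * (t * n i) * g⁻¹ = (g * c * g⁻¹)⁻¹ * (g * u * g⁻¹) * (g * d * g⁻¹)⁻¹ := by rw [e]; group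
    rw [h1]
    exact mul_mem (mul_mem (inv_mem (Subgroup.mem_sup_left (hcj c hc))) (Subgroup.mem_sup_right hcj'))
      (inv_mem (Subgroup.mem_sup_left (hcj d hd)))
  · have h1 : ρ (g * (t * n i) * g⁻¹) a = ρ g (ρ t (ρ (n i) a)) := by
      rw [rho_mul, rho_mul, rho_mul, fix_inv hga]
    rw [h1, Nm.conj (H := X (sr i)) (g := g) hcj (fun z hz => ?_),
      Nm.conj (H := X (sr i)) (g := t) (fun z hz => ?_) (fun z hz => ?_), ThmA.nm_simple R.core hi, hta, hga]
    · have h2 := R.rgd.tor _ hsr t ht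
      have : t * z * t⁻¹ ∈ cj t (X (sr i)) := conj_mem_cj.2 hz
      rwa [h2] at this
    · have h2 := R.rgd.tor _ hsr t⁻¹ (inv_mem ht)
      have : t⁻¹ * z * t⁻¹⁻¹ ∈ cj t⁻¹ (X (sr i)) := conj_mem_cj.2 hz
      rwa [h2, inv_inv] at this
    · have h2 := R.rgd.conj_mem' hg (hsr.act v) hz
      rwa [rep_inv_apply] at h2

/-- the norms of a list of subgroups -/
noncomputable def nmL (ρ : Y →* (V ≃ₗ[ZMod 2] V)) [Finite Y] (L : List (Subgroup Y)) (v : V) : V :=
  L.foldr (fun H u => Nm ρ H u) v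

theorem nm_comm [Finite Y] {H : Subgroup Y} {m : Y} (hm : ∀ u ∈ H, m * u = u * m) (v : V) :
    Nm ρ H (ρ m v) = ρ m (Nm ρ H v) := by
  refine Nm.conj (fun u hu => ?_) (fun u hu => ?_) v
  · rw [hm u hu]
    have : u * m * m⁻¹ = u := by group
    rwa [this]
  · have : m⁻¹ * u * m = u := by rw [mul_assoc, ← hm u hu]; group
    rwa [this]

theorem nmL_comm [Finite Y] {L : List (Subgroup Y)} {m : Y} (hm : ∀ H ∈ L, ∀ u ∈ H, m * u = u * m) (v : V) :
    nmL ρ L (ρ m v) = ρ m (nmL ρ L v) := by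
  induction L with
  | nil => rfl
  | cons H L ih =>
    show Nm ρ H (nmL ρ L (ρ m v)) = ρ m (Nm ρ H (nmL ρ L v))
    rw [ih fun H' hH' => hm H' (List.mem_cons_of_mem _ hH'), nm_comm (hm H List.mem_cons_self)]

/-- **(F)** : commuting root groups. -/
theorem sum_le_three [Finite W] [Finite Y] (R : Row cs h T n X ρ b a D X0 w0) (L : List (I → ℤ)) (m : (I → ℤ) → ℕ)
    (hL : ∀ x ∈ L, ∃ v ∈ WJ cs (Mv ρ n a)ᶜ, ∃ i ∈ Mv ρ n a, x = rep cs h v (sr i))
    (hX : ∀ x ∈ L, X x ≤ X0) (hc : ∀ x ∈ L, Nat.card (X x) = 2 ^ m x)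
    (hp : L.Pairwise fun x y => ∀ u ∈ X x ⊔ X (-x), ∀ v ∈ X y, u * v = v * u) : (L.map m).sum ≤ 3 := by
  have key : ∃ v, nmL ρ (L.map X) v = a := by
    clear hX hc
    induction L with
    | nil => exact ⟨a, rfl⟩
    | cons x L ih =>
      obtain ⟨v, hv⟩ := ih (fun y hy => hL y (List.mem_cons_of_mem _ hy)) (List.pairwise_cons.1 hp).2
      obtain ⟨w, hw, i, hi, e⟩ := hL x List.mem_cons_self
      obtain ⟨g, hg, hg2⟩ := exists_m R hw hi
      rw [← e] at hg hg2
      refine ⟨ρ g v, ?_⟩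
      show Nm ρ (X x) (nmL ρ (L.map X) (ρ g v)) = a
      rw [nmL_comm, hv, hg2]
      intro H hH u hu
      obtain ⟨y, hy, rfl⟩ := List.mem_map.1 hH
      exact (List.pairwise_cons.1 hp).1 y hy g hg u hu
  obtain ⟨v, hv⟩ := key
  have h1 : Lv b a D (L.map m).sum (nmL ρ (L.map X) v) := by
    clear hv hp hL
    induction L with
    | nil => trivial
    | cons x L ih =>
      have h2 := ih (fun y hy => hX y (List.mem_cons_of_mem _ hy)) (fun y hy => hc y (List.mem_cons_of_mem _ hy))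
      have h3 := lv_nm R (m x) (hX x List.mem_cons_self) (hc x List.mem_cons_self) h2
      rw [List.map_cons, List.sum_cons, add_comm]
      exact h3
  rw [hv] at h1
  by_contra hcon
  push Not at hcon
  obtain ⟨k, hk⟩ := Nat.exists_eq_add_of_le hcon
  have h2 : (L.map m).sum = k + 4 := by omega
  rw [h2] at h1
  exact R.a_ne h1

/-! ### Simply laced -/

/-- a root with coefficient one at `i` is `W_J`-conjugate to `α_i` (all coefficients at `i` at most one) -/
theorem exists_conj [Finite W] (hs : SL cs h) {i : I} {x : I → ℤ} (hx : IsRoot cs h x) (hx1 : x i = 1) :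
    ∃ v ∈ WJ cs ({i}ᶜ : Set I), x = rep cs h v (sr i) := by
  have key : ∀ (N : ℕ) (x : I → ℤ), IsRoot cs h x → x i = 1 → ht x ≤ N →
      ∃ v ∈ WJ cs ({i}ᶜ : Set I), x = rep cs h v (sr i) := by
    intro N
    induction N with
    | zero =>
      intro x hx hx1 hN
      have h0 : 0 ≤ x := nonneg_of_pos_apply hx (k := i) (by omega)
      have := sum_pos h0 hx.ne_zero
      simp only [Nat.cast_zero] at hN
      omega
    | succ N ih =>
      intro x hx hx1 hN
      have h0 : 0 ≤ x := nonneg_of_pos_apply hx (k := i) (by omega)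
      by_cases hns : ∃ j, x = sr j
      · obtain ⟨j, rfl⟩ := hns
        have hij : i = j := by
          by_contra hne
          rw [sr_ne hne] at hx1
          omega
        subst hij
        exact ⟨1, one_mem _, by rw [map_one, Module.End.one_apply]⟩
      push Not at hns
      obtain ⟨j, h1, h2, h3⟩ := Lev.exists_sub hs hx h0 hns
      have hsr := isRoot_sr cs h j
      by_cases hij : i = j
      · -- `x = α_i + y`, `y ∈ Φ_J`
        subst hij
        set y : I → ℤ := x - sr i with hy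
        have hyi : y i = 0 := by rw [hy, Pi.sub_apply, hx1, sr_self, sub_self]
        have hyJ : y ∈ RootsJ cs h ({i}ᶜ : Set I) := ⟨h1, fun k hk => by
          have : k = i := not_not.1 hk
          rw [this, hyi]⟩
        obtain ⟨v, hv, l, hl, e⟩ := exists_of_mem_RootsJ hyJ
        refine ⟨rfl' cs v l, mul_mem (mul_mem hv (simple_mem_WJ cs hl)) (inv_mem hv), ?_⟩
        rw [rep_rfl'_eq, ← e, h3.cyx, neg_one_smul, sub_neg_eq_add, hy]
        abel
      · have hht : ht (x - sr j) ≤ N := by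
          have e : ht x = ht (x - sr j) + ht (sr j) := by rw [← RGD.ht_add, sub_add_cancel]
          have e2 := sum_pos (sr_nonneg j) (sr_ne_zero j)
          push_cast at hN
          omega
        obtain ⟨v, hv, e⟩ := ih (x - sr j) h1 (by rw [Pi.sub_apply, sr_ne hij, hx1, sub_zero]) hht
        refine ⟨cs.simple j * v, mul_mem (simple_mem_WJ cs (fun h4 => hij (Set.mem_singleton_iff.1 h4).symm)) hv, ?_⟩
        rw [rep_mul_apply, ← e, rep_simple_eq]
        have h4 : pairing A j (x - sr j) = -1 := by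
          rw [← cpr_sr cs h, h3.cxy]
        rw [h4, neg_one_smul, sub_neg_eq_add, sub_add_cancel]
  have h0 : 0 ≤ x := nonneg_of_pos_apply hx (k := i) (by omega)
  obtain ⟨N, hN⟩ := Int.eq_ofNat_of_zero_le (sum_pos h0 hx.ne_zero).le
  exact key N x hx hx1 (by rw [hN])

/-- **(C), (D), (E), (F) for a simply laced row with connected diagram.** -/
theorem nodeOK [Finite W] [Finite Y] (R : Row cs h T n X ρ b a D X0 w0) (hs : SL cs h)
    (hconn : ∀ J : Set I, J.Nonempty → J ≠ Set.univ → ∃ a ∈ J, ∃ b, b ∉ J ∧ M a b ≠ 2) {m : ℕ}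
    (hm : ∀ x, IsRoot cs h x → Nat.card (X x) = 2 ^ m) :
    ∃ i, Mv ρ n a = {i} ∧ X0 = VJ cs h X {i}ᶜ ∧ NodeOK cs h i m := by
  obtain ⟨i, hK, hX0, hle⟩ := Lev.one_node R hs hconn
  have hle1 : ∀ x, IsRoot cs h x → x i ≤ 1 := by
    intro x hx
    rcases hx.pos_or_neg with h0 | h0
    · exact hle x hx h0
    · exact le_trans (h0 i) (by norm_num)
  have hNot : ∀ x, IsRoot cs h x → x i = 1 → x ∈ NotJ cs h ({i}ᶜ : Set I) := fun x hx hx1 =>
    ⟨hx, nonneg_of_pos_apply hx (k := i) (by omega), i, not_not.2 rfl, by omega⟩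
  have hXle : ∀ x, IsRoot cs h x → x i = 1 → X x ≤ X0 := fun x hx hx1 => by
    rw [hX0]; exact RGD.le_Sup (hNot x hx hx1)
  refine ⟨i, hK, hX0, hle1, ?_, ?_⟩
  · obtain ⟨w, k, -, -, h1⟩ := Opp.opp R (S := {x | IsRoot cs h x ∧ x i = 1}) (fun x hx => by
      obtain ⟨u, hu, hu1⟩ := exists_ne R.rgd hx.1
      exact ⟨hx.1, u, hu, hXle x hx.1 hx.2 hu, hu1⟩)
    refine ⟨w⁻¹, fun x hx hx1 => ?_⟩
    obtain ⟨h2, h3, j, hj, hj0⟩ := h1 x ⟨hx, hx1⟩
    have hji : j = i := by
      have : j ∈ Mv ρ n a := not_not.1 hj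
      rw [hK] at this
      exact this
    subst hji
    have h4 := hle1 _ h2
    rw [Pi.neg_apply] at hj0 h4
    omega
  · intro s hs1 hs2
    have key : ∀ x ∈ s, ∀ y ∈ s, x ≠ y → ∀ u ∈ X x ⊔ X (-x), ∀ v ∈ X y, u * v = v * u := by
      intro x hx y hy hxy u hu v hv
      obtain ⟨hxr, hx1⟩ := hs1 x hx
      obtain ⟨hyr, hy1⟩ := hs1 y hy
      have hxy' : x ≠ -y := by
        intro h1
        rw [h1, Pi.neg_apply] at hx1
        omega
      have hc1 : 0 ≤ cpr cs h x y := nonneg_of_not_add hs hxr hyr hxy' (fun h1 => by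
        have := hle1 _ h1
        rw [Pi.add_apply] at this
        omega)
      have hc2 : 0 ≤ cpr cs h x (-y) := nonneg_of_not_add hs hxr hyr.neg (by rwa [neg_neg]) (fun h1 =>
        hs2 x hx y hy hxy (by rwa [← sub_eq_add_neg] at h1))
      rw [cpr_neg_right cs h x hyr] at hc2
      have hc0 : cpr cs h x y = 0 := by omega
      have e1 : ∀ u ∈ X x, u * v = v * u := fun u hu =>
        comm_of_not_btwn R.rgd hxr hyr hxy hxy' (fun z hz => hs.not_btwn hxr hyr hxy hc1 z hz) hu hv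
      have e2 : ∀ u ∈ X (-x), u * v = v * u := fun u hu => by
        have h3 : -x ≠ y := fun h4 => hxy' (by rw [← h4, neg_neg])
        have h4 : -x ≠ -y := fun h5 => hxy (neg_injective h5)
        refine comm_of_not_btwn R.rgd hxr.neg hyr h3 h4 (fun z hz => hs.not_btwn hxr.neg hyr h3 ?_ z hz) hu hv
        rw [cpr_neg_left _ hyr, hc0, neg_zero]
      have h5 : X x ⊔ X (-x) ≤ Subgroup.centralizer {v} := by
        refine sup_le (fun u hu => ?_) (fun u hu => ?_)
        · rw [Subgroup.mem_centralizer_singleton_iff]; exact e1 u hu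
        · rw [Subgroup.mem_centralizer_singleton_iff]; exact e2 u hu
      exact Subgroup.mem_centralizer_singleton_iff.1 (h5 hu)
    have h1 := sum_le_three R s.toList (fun _ => m) (fun x hx => ?_) (fun x hx => ?_) (fun x hx => ?_) ?_
    · rw [List.map_const', List.sum_replicate, Finset.length_toList, smul_eq_mul, mul_comm] at h1
      exact h1
    · obtain ⟨hxr, hx1⟩ := hs1 x (Finset.mem_toList.1 hx)
      obtain ⟨v, hv, e⟩ := exists_conj hs hxr hx1
      rw [← hK] at hv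
      exact ⟨v, hv, i, by rw [hK]; rfl, e⟩
    · obtain ⟨hxr, hx1⟩ := hs1 x (Finset.mem_toList.1 hx)
      exact hXle x hxr hx1
    · exact hm x (hs1 x (Finset.mem_toList.1 hx)).1
    · have h2 : s.toList.Pairwise (· ≠ ·) := s.nodup_toList
      exact h2.imp_of_mem fun {x y} hx hy hxy u hu v hv =>
        key x (Finset.mem_toList.1 hx) y (Finset.mem_toList.1 hy) hxy u hu v hv

end Cfsg.Agent.Omega.EH3.Kf.Orth

end

section


/-!
# EH3, Lie rows in characteristic 2: piece K4 = (G) (helper827; blueprints/OMEGA-EH3-KF3-helper227.md)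

`tr ρ b c x y t = b (y-1)(x-1)c, (t-1)c` is trilinear and alternating on `X0`, does not depend on `c` and is invariant
under the stabiliser of `a` (`tr_conj`).  `not_kills` : simply laced, `q = 2`, `X0` the product of the root groups with
coefficient one at `i`: the triples of roots are not all killed.
-/

set_option autoImplicit false
set_option linter.unusedSectionVars false

namespace Cfsg.Agent.Omega.EH3.Kf.Tri

open CoxeterSystem Cfsg.Agent.ChevalleyStructure.CoxeterGeom Cfsg.Agent.Tits.Roots Cfsg.Agent.Tits.Core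
  Cfsg.Agent.Tits.RootComb Cfsg.Agent.Nodes.Comb Cfsg.Agent.Nodes.Reps Cfsg.Agent.Nodes.BNOf
  Cfsg.Agent.Nodes.Coroot Cfsg.Agent.KFacts.RgdSL Cfsg.Agent.Omega.EH3.Kf.Base Cfsg.Agent.Omega.EH3.Kf.Node
  Cfsg.Agent.Nodes.OppDec Cfsg.Agent.Nodes.StabComb Cfsg.Agent.Nodes.Bruhat
open scoped commutatorElement

variable {I W Y V : Type*} [Fintype I] [DecidableEq I] [Group W] [Group Y] [AddCommGroup V] [Module (ZMod 2) V]
  {M : CoxeterMatrix I} {cs : CoxeterSystem M W} {A : I → I → ℤ} {h : IsCartan M A}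
  {T : Subgroup Y} {n : I → Y} {X : (I → ℤ) → Subgroup Y} {ρ : Y →* (V ≃ₗ[ZMod 2] V)}
  {b : LinearMap.BilinForm (ZMod 2) V} {a : V} {D : Submodule (ZMod 2) V} {X0 : Subgroup Y} {w : ℕ}

/-- the trilinear form -/
def tr (ρ : Y →* (V ≃ₗ[ZMod 2] V)) (b : LinearMap.BilinForm (ZMod 2) V) (c : V) (x y t : Y) : ZMod 2 :=
  b (dl ρ y (dl ρ x c)) (dl ρ t c)

theorem vv (v : V) : v + v = 0 := by
  have : v + v = (2 : ZMod 2) • v := by rw [two_smul]
  rw [this, show (2 : ZMod 2) = 0 from rfl, zero_smul]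

theorem dl_add (x : Y) (u v : V) : dl ρ x (u + v) = dl ρ x u + dl ρ x v := by
  unfold dl; rw [map_add]; abel

theorem dl_one (v : V) : dl ρ 1 v = 0 := by
  unfold dl
  rw [map_one]
  exact vv v

theorem dl_mul (x y : Y) (v : V) : dl ρ (x * y) v = dl ρ x (dl ρ y v) + dl ρ x v + dl ρ y v := by
  unfold dl
  rw [map_mul, map_add]
  have h1 := vv (ρ x v)
  have h2 := vv (ρ y v)
  have h3 := vv v
  show ρ x (ρ y v) + v = _
  have : ρ x (ρ y v) + ρ x v + (ρ y v + v) + (ρ x v + v) + (ρ y v + v) =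
      ρ x (ρ y v) + v + (ρ x v + ρ x v) + (ρ y v + ρ y v) + (v + v) := by abel
  rw [this, h1, h2, h3]
  simp

theorem dl_conj (g x : Y) (v : V) : dl ρ (g * x * g⁻¹) (ρ g v) = ρ g (dl ρ x v) := by
  unfold dl
  rw [map_mul, map_mul, map_add]
  show ρ g (ρ x (ρ g⁻¹ (ρ g v))) + _ = _
  have : ρ g⁻¹ (ρ g v) = v := by
    have h1 : ρ (g⁻¹ * g) v = ρ g⁻¹ (ρ g v) := by rw [map_mul]; rfl
    rw [← h1, inv_mul_cancel, map_one]; rfl
  rw [this]

theorem dl_comm {x y : Y} (hxy : x * y = y * x) (v : V) : dl ρ x (dl ρ y v) = dl ρ y (dl ρ x v) := by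
  have h1 := dl_mul (ρ := ρ) x y v
  have h2 := dl_mul (ρ := ρ) y x v
  rw [hxy, h2] at h1
  have h3 : dl ρ y (dl ρ x v) + dl ρ y v + dl ρ x v = dl ρ y (dl ρ x v) + (dl ρ x v + dl ρ y v) := by abel
  rw [h3, add_assoc] at h1
  exact (add_right_cancel h1).symm

section Row

variable (R : Row cs h T n X ρ b a D X0 w)

include R

theorem bc (u v : V) : b u v = b v u := by
  have h1 := R.b_self (u + v)
  rw [map_add, map_add, LinearMap.add_apply, LinearMap.add_apply, R.b_self, R.b_self, zero_add, add_zero] at h1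
  exact (CharTwo.add_eq_zero.1 h1).symm

theorem comm0 {x y : Y} (hx : x ∈ X0) (hy : y ∈ X0) : x * y = y * x := by
  have h1 := R.sq _ (X0.mul_mem hx hy)
  have hx2 : x⁻¹ = x := inv_eq_of_mul_eq_one_left (R.sq x hx)
  have hy2 : y⁻¹ = y := inv_eq_of_mul_eq_one_left (R.sq y hy)
  have h2 : (x * y)⁻¹ = x * y := inv_eq_of_mul_eq_one_left h1
  rw [mul_inv_rev, hx2, hy2] at h2
  exact h2.symm

theorem exists_c : ∃ c, b a c = 1 := by
  by_contra hcon
  push Not at hcon
  apply R.a_ne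
  apply R.nondeg
  intro u
  have : b a u = 0 ∨ b a u = 1 := by generalize b a u = r; revert r; decide
  rcases this with h1 | h1
  · exact h1
  · exact absurd h1 (hcon u)

theorem dD {x y : Y} (hx : x ∈ X0) (hy : y ∈ X0) (c : V) : dl ρ y (dl ρ x c) ∈ D := R.two y hy _ (R.one x hx c)

theorem tr_swap {x y : Y} (hx : x ∈ X0) (hy : y ∈ X0) (c : V) (t : Y) : tr ρ b c x y t = tr ρ b c y x t := by
  unfold tr; rw [dl_comm (comm0 R hx hy)]

theorem tr_self {x : Y} (hx : x ∈ X0) (c : V) (t : Y) : tr ρ b c x x t = 0 := by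
  have h1 := dl_mul (ρ := ρ) x x c
  rw [R.sq x hx, dl_one, add_assoc, vv, add_zero] at h1
  unfold tr
  rw [← h1, map_zero, LinearMap.zero_apply]

theorem tr_add3 {x y t t' : Y} (hx : x ∈ X0) (hy : y ∈ X0) (ht : t ∈ X0) (ht' : t' ∈ X0) (c : V) :
    tr ρ b c x y (t * t') = tr ρ b c x y t + tr ρ b c x y t' := by
  unfold tr
  rw [dl_mul, map_add, map_add, R.b_D _ (dD R hx hy c) _ (dD R ht' ht c), zero_add]

theorem b_a_dl {t : Y} (ht : t ∈ X0) (c : V) : b a (dl ρ t c) = 0 := R.one t ht c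

theorem tr_add2 {x y y' t : Y} (hx : x ∈ X0) (hy : y ∈ X0) (hy' : y' ∈ X0) (ht : t ∈ X0) (c : V) :
    tr ρ b c x (y * y') t = tr ρ b c x y t + tr ρ b c x y' t := by
  unfold tr
  rw [dl_mul, map_add, map_add, LinearMap.add_apply, LinearMap.add_apply]
  have h1 : b (dl ρ y (dl ρ y' (dl ρ x c))) (dl ρ t c) = 0 := by
    rcases R.three y hy _ (dD R hx hy' c) with h2 | h2
    · rw [h2, map_zero, LinearMap.zero_apply]
    · rw [h2]; exact b_a_dl R ht c
  rw [h1, zero_add]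

theorem tr_add1 {x x' y t : Y} (hx : x ∈ X0) (hx' : x' ∈ X0) (hy : y ∈ X0) (ht : t ∈ X0) (c : V) :
    tr ρ b c (x * x') y t = tr ρ b c x y t + tr ρ b c x' y t := by
  rw [tr_swap R (X0.mul_mem hx hx') hy, tr_add2 R hy hx hx' ht, tr_swap R hy hx, tr_swap R hy hx']

theorem tr_self' {y : Y} (hy : y ∈ X0) (x : Y) (c : V) : tr ρ b c x y y = 0 := by
  unfold tr
  set u := dl ρ x c with hu
  have e0 : ∀ v, ρ y (ρ y v) = v := fun v => by
    have h1 : ρ (y * y) v = ρ y (ρ y v) := by rw [map_mul]; rfl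
    rw [← h1, R.sq y hy, map_one]; rfl
  have e1 : b (ρ y u) (ρ y c) = b u c := R.b_inv y _ _
  have e2 : b u (ρ y c) = b (ρ y u) c := by
    have h1 := R.b_inv y (ρ y u) c
    rwa [e0] at h1
  show b (ρ y u + u) (ρ y c + c) = 0
  rw [map_add, map_add, LinearMap.add_apply, LinearMap.add_apply, e1, e2]
  generalize b u c = r
  generalize b (ρ y u) c = s
  revert r s
  decide

theorem tr_swap23 {x y t : Y} (hx : x ∈ X0) (hy : y ∈ X0) (ht : t ∈ X0) (c : V) :
    tr ρ b c x y t = tr ρ b c x t y := by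
  have h1 := tr_self' R (X0.mul_mem hy ht) x c
  rw [tr_add3 R hx (X0.mul_mem hy ht) hy ht, tr_add2 R hx hy ht hy, tr_add2 R hx hy ht ht, tr_self' R hy,
    tr_self' R ht, zero_add, add_zero] at h1
  exact (CharTwo.add_eq_zero.1 h1).symm

theorem tr_indep {c c' : V} (hc : b a c = 1) (hc' : b a c' = 1) {x y t : Y} (hx : x ∈ X0) (hy : y ∈ X0)
    (ht : t ∈ X0) : tr ρ b c' x y t = tr ρ b c x y t := by
  obtain ⟨v, rfl⟩ : ∃ v, c' = c + v := ⟨c' - c, by abel⟩
  have hv : b a v = 0 := by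
    rw [map_add, hc] at hc'
    generalize b a v = r at hc'
    revert r; decide
  have h1 : dl ρ x v ∈ D := R.two x hx v hv
  have h2 : dl ρ t v ∈ D := R.two t ht v hv
  unfold tr
  rw [dl_add, dl_add, dl_add, map_add, map_add, LinearMap.add_apply, LinearMap.add_apply,
    R.b_D _ (dD R hx hy c) _ h2, R.b_D _ (dD R hx hy v) _ h2]
  have h3 : b (dl ρ y (dl ρ x v)) (dl ρ t c) = 0 := by
    rcases R.three y hy _ h1 with h4 | h4
    · rw [h4, map_zero, LinearMap.zero_apply]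
    · rw [h4]; exact b_a_dl R ht c
  rw [h3]; simp

/-- The form is invariant under the stabiliser of `a`. -/
theorem tr_conj {c : V} (hc : b a c = 1) {g : Y} (hg : ρ g a = a) {x y t : Y} (hx : x ∈ X0) (hy : y ∈ X0)
    (ht : t ∈ X0) : tr ρ b c (g * x * g⁻¹) (g * y * g⁻¹) (g * t * g⁻¹) = tr ρ b c x y t := by
  have h1 : b a (ρ g c) = 1 := by
    rw [← hc]
    nth_rewrite 1 [← hg]
    exact R.b_inv g a c
  rw [← tr_indep R hc h1 (R.norm g hg x hx) (R.norm g hg y hy) (R.norm g hg t ht)]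
  unfold tr
  rw [dl_conj, dl_conj, dl_conj, R.b_inv]

theorem tr_one1 (c : V) (y t : Y) : tr ρ b c 1 y t = 0 := by
  unfold tr
  rw [dl_one]
  unfold dl
  simp

/-! ### The root elements -/

variable (hs : SL cs h) [Finite W] {i : I}

/-- The value of the form on root elements vanishes for a killed triple. -/
theorem tr_killed (hs : SL cs h) {i : I} (h2 : ∀ x, IsRoot cs h x → Nat.card (X x) = 2)
    (hX0 : ∀ x, IsRoot cs h x → x i = 1 → X x ≤ X0)
    (hfix : ∀ x, IsRoot cs h x → x i = 0 → ∀ g ∈ X x, ρ g a = a) {c : V} (hc : b a c = 1)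
    {α β ε : I → ℤ} (hα : IsRoot cs h α) (hβ : IsRoot cs h β) (hε : IsRoot cs h ε) (hα1 : α i = 1) (hβ1 : β i = 1)
    (hε1 : ε i = 1) (_hαε : α ≠ ε) (hk : Killed cs h i α β ε) {x y z : Y} (hx : x ∈ X α) (hy : y ∈ X β) (hz : z ∈ X ε) :
    tr ρ b c x y z = 0 := by
  obtain ⟨δ, hδ, hδ0, hβδ, k1, k2⟩ := hk
  -- the element `u` of `X (β - δ)` and `d ∈ X δ`
  have hA : A2 cs h (β - δ) δ := hs.a2 hβδ hδ (cpr_of_add hs hβδ hδ (by rwa [sub_add_cancel]))
  have hβδ1 : (β - δ) i = 1 := by rw [Pi.sub_apply, hβ1, hδ0]; rfl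
  obtain ⟨u, hu, hu1⟩ : ∃ u ∈ X (β - δ), u ≠ 1 := by
    have := X_ne_bot R.rgd hβδ
    rw [Subgroup.ne_bot_iff_exists_ne_one] at this
    obtain ⟨⟨a, ha⟩, h1⟩ := this
    exact ⟨a, ha, fun h2 => h1 (Subtype.ext h2)⟩
  obtain ⟨d, hd, hud⟩ := A2.comm_surj R.rgd hA hu hu1 (w := y) (by rwa [sub_add_cancel])
  have hu0 : u ∈ X0 := hX0 _ hβδ hβδ1 hu
  have hy0 : y ∈ X0 := hX0 _ hβ hβ1 hy
  have hx0 : x ∈ X0 := hX0 _ hα hα1 hx
  have hz0 : z ∈ X0 := hX0 _ hε hε1 hz
  have hda : ρ d a = a := hfix δ hδ hδ0 d hd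
  have e1 : d * u * d⁻¹ = u * y := by
    have h3 : y⁻¹ = y := inv_eq_of_mul_eq_one_left (R.sq y hy0)
    have h4 : d * u * d⁻¹ = y⁻¹ * u := by
      rw [← hud, commutatorElement_def]; group
    rw [h4, h3, comm0 R hy0 hu0]
  have key : ∀ {γ γ' : I → ℤ}, IsRoot cs h γ → IsRoot cs h γ' → γ i = 1 → γ' i = 1 → (IsRoot cs h (γ + δ) → γ + δ = γ') →
      ∀ {g g' : Y}, g ∈ X γ → g' ∈ X γ' → g' ≠ 1 → d * g * d⁻¹ = g ∨ (γ + δ = γ' ∧ d * g * d⁻¹ = g * g') := by
    intro γ γ' hγ hγ' hγ1 hγ1' hk g g' hg hg' hg1'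
    by_cases hr : IsRoot cs h (γ + δ)
    · have h3 := hk hr
      have hA' : A2 cs h γ δ := hs.a2 hγ hδ (cpr_of_add hs hγ hδ hr)
      by_cases h4 : ⁅d, g⁆ = 1
      · left
        rw [commutatorElement_eq_one_iff_mul_comm] at h4
        rw [h4]; group
      · right
        refine ⟨h3, ?_⟩
        have h5 : ⁅d, g⁆ ∈ X γ' := by
          have := A2.comm_mem R.rgd hA'.symm hd hg
          rwa [add_comm, h3] at this
        have h6 : ⁅d, g⁆ = g' := by
          have hc2 := h2 γ' hγ'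
          rw [Nat.card_eq_two_iff' (1 : X γ')] at hc2
          obtain ⟨r, hr1, hr2⟩ := hc2
          have e3 := hr2 ⟨_, h5⟩ (fun e => h4 (congrArg Subtype.val e))
          have e4 := hr2 ⟨_, hg'⟩ (fun e => hg1' (congrArg Subtype.val e))
          exact congrArg Subtype.val (e3.trans e4.symm)
        have h7 : d * g * d⁻¹ = ⁅d, g⁆ * g := by rw [commutatorElement_def]; group
        rw [h7, h6, comm0 R (hX0 _ hγ' hγ1' hg') (hX0 _ hγ hγ1 hg)]
    · left
      have hne : γ ≠ -δ := by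
        intro e
        rw [e, Pi.neg_apply, hδ0] at hγ1
        norm_num at hγ1
      have hne' : γ ≠ δ := by
        intro e
        rw [e, hδ0] at hγ1
        norm_num at hγ1
      have h3 := comm_of_not_btwn R.rgd hγ hδ hne' hne
        (fun z hz => hs.not_btwn hγ hδ hne' (nonneg_of_not_add hs hγ hδ hne hr) z hz) hg hd
      rw [← h3]; group
  by_cases hx1 : x = 1
  · rw [hx1, tr_one1 R]
  by_cases hz1 : z = 1
  · rw [hz1]
    unfold tr
    rw [dl_one, map_zero]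
  have e2 := tr_conj R hc hda hx0 hu0 hz0
  rw [e1] at e2
  rcases key hα hε hα1 hε1 k1 hx hz hz1 with h3 | ⟨h3, h3'⟩ <;>
    rcases key hε hα hε1 hα1 k2 hz hx hx1 with h4 | ⟨h4, h4'⟩
  · rw [h3, h4, tr_add2 R hx0 hu0 hy0 hz0] at e2
    exact add_left_cancel (e2.trans (add_zero _).symm)
  · rw [h3, h4', tr_add3 R hx0 (X0.mul_mem hu0 hy0) hz0 hx0, tr_add2 R hx0 hu0 hy0 hz0,
      tr_swap23 R hx0 (X0.mul_mem hu0 hy0) hx0, tr_self R hx0, add_zero] at e2
    exact add_left_cancel (e2.trans (add_zero _).symm)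
  · rw [h3', h4, tr_add1 R hx0 hz0 (X0.mul_mem hu0 hy0) hz0, tr_add2 R hx0 hu0 hy0 hz0,
      tr_swap R hz0 (X0.mul_mem hu0 hy0), tr_self' R hz0, add_zero] at e2
    exact add_left_cancel (e2.trans (add_zero _).symm)
  · exfalso
    apply hδ.ne_zero
    have h5 : α + (δ + δ) = α := by rw [← add_assoc, h3, h4]
    have h6 : (2 : ℤ) • δ = 0 := by rw [two_smul]; simpa using h5
    exact (smul_eq_zero.1 h6).resolve_left (by norm_num)

/-- **(G)** -/
theorem not_kills (hs : SL cs h) {i : I} (h2 : ∀ x, IsRoot cs h x → Nat.card (X x) = 2)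
    (hX0 : X0 = RGD.Sup X {x | IsRoot cs h x ∧ x i = 1})
    (hfix : ∀ x, IsRoot cs h x → x i = 0 → ∀ g ∈ X x, ρ g a = a) : ¬ Kills cs h i := by
  intro hk
  obtain ⟨c, hc⟩ := exists_c R
  have hX0' : ∀ x, IsRoot cs h x → x i = 1 → X x ≤ X0 := fun x hx hx1 => by
    rw [hX0]; exact RGD.le_Sup (S := {x | IsRoot cs h x ∧ x i = 1}) ⟨hx, hx1⟩
  have eq2 : ∀ {γ : I → ℤ}, IsRoot cs h γ → ∀ {g g' : Y}, g ∈ X γ → g' ∈ X γ → g ≠ 1 → g' ≠ 1 → g = g' := by
    intro γ hγ g g' hg hg' h3 h4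
    have hc2 := h2 γ hγ
    rw [Nat.card_eq_two_iff' (1 : X γ)] at hc2
    obtain ⟨r, hr1, hr2⟩ := hc2
    have e3 := hr2 ⟨_, hg⟩ (fun e => h3 (congrArg Subtype.val e))
    have e4 := hr2 ⟨_, hg'⟩ (fun e => h4 (congrArg Subtype.val e))
    exact congrArg Subtype.val (e3.trans e4.symm)
  -- root elements
  have k0 : ∀ α β ε, IsRoot cs h α → IsRoot cs h β → IsRoot cs h ε → α i = 1 → β i = 1 → ε i = 1 →
      ∀ x ∈ X α, ∀ y ∈ X β, ∀ z ∈ X ε, tr ρ b c x y z = 0 := by
    intro α β ε hα hβ hε hα1 hβ1 hε1 x hx y hy z hz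
    have hx0 := hX0' _ hα hα1 hx
    have hy0 := hX0' _ hβ hβ1 hy
    have hz0 := hX0' _ hε hε1 hz
    by_cases hx1 : x = 1
    · rw [hx1, tr_one1 R]
    by_cases hy1 : y = 1
    · rw [tr_swap R hx0 hy0, hy1, tr_one1 R]
    by_cases hz1 : z = 1
    · rw [hz1]
      unfold tr
      rw [dl_one, map_zero]
    by_cases h3 : α = β
    · subst h3
      rw [eq2 hα hx hy hx1 hy1, tr_self R hy0]
    by_cases h4 : β = ε
    · subst h4
      rw [eq2 hβ hy hz hy1 hz1, tr_self' R hz0]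
    by_cases h5 : α = ε
    · subst h5
      rw [tr_swap R hx0 hy0, eq2 hα hx hz hx1 hz1, tr_self' R hz0]
    rcases hk α β ε hα hβ hε hα1 hβ1 hε1 h3 h4 h5 with h6 | h6 | h6
    · exact tr_killed R hs h2 hX0' hfix hc hα hβ hε hα1 hβ1 hε1 h5 h6 hx hy hz
    · rw [tr_swap R hx0 hy0]
      exact tr_killed R hs h2 hX0' hfix hc hβ hα hε hβ1 hα1 hε1 h4 h6 hy hx hz
    · rw [tr_swap23 R hx0 hy0 hz0]
      exact tr_killed R hs h2 hX0' hfix hc hα hε hβ hα1 hε1 hβ1 h3 h6 hx hz hy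
  -- extension to `X0`
  have ind : ∀ P : Y → Prop, P 1 → (∀ x ∈ X0, ∀ y ∈ X0, P x → P y → P (x * y)) →
      (∀ α, IsRoot cs h α → α i = 1 → ∀ x ∈ X α, P x) → ∀ x ∈ X0, P x := by
    intro P h1 hm hg x hx
    have hx' : x ∈ ⨆ z : {x | IsRoot cs h x ∧ x i = 1}, X z.1 := by
      have := hx
      rw [hX0] at this
      exact this
    suffices hh : x ∈ X0 ∧ P x from hh.2
    refine Subgroup.iSup_induction (C := fun x => x ∈ X0 ∧ P x) _ hx' ?_ ?_ ?_
    · rintro ⟨z, hz⟩ y hy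
      exact ⟨hX0' z hz.1 hz.2 hy, hg z hz.1 hz.2 y hy⟩
    · exact ⟨X0.one_mem, h1⟩
    · rintro y z ⟨hy, hy'⟩ ⟨hz, hz'⟩
      exact ⟨X0.mul_mem hy hz, hm y hy z hz hy' hz'⟩
  have k1 : ∀ x ∈ X0, ∀ y ∈ X0, ∀ z ∈ X0, tr ρ b c x y z = 0 := by
    refine ind (fun x => ∀ y ∈ X0, ∀ z ∈ X0, tr ρ b c x y z = 0) (fun y _ z _ => tr_one1 R _ _ _) ?_ ?_
    · intro x hx x' hx' h3 h4 y hy z hz
      rw [tr_add1 R hx hx' hy hz, h3 y hy z hz, h4 y hy z hz, add_zero]
    intro α hα hα1 x hx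
    have hx0 := hX0' _ hα hα1 hx
    refine ind (fun y => ∀ z ∈ X0, tr ρ b c x y z = 0) (fun z _ => ?_) ?_ ?_
    · rw [tr_swap R hx0 X0.one_mem, tr_one1 R]
    · intro y hy y' hy' h3 h4 z hz
      rw [tr_add2 R hx0 hy hy' hz, h3 z hz, h4 z hz, add_zero]
    intro β hβ hβ1 y hy
    have hy0 := hX0' _ hβ hβ1 hy
    refine ind (fun z => tr ρ b c x y z = 0) ?_ ?_ ?_
    · unfold tr
      rw [dl_one, map_zero]
    · intro z hz z' hz' h3 h4
      rw [tr_add3 R hx0 hy0 hz hz', h3, h4, add_zero]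
    · intro ε hε hε1 z hz
      exact k0 α β ε hα hβ hε hα1 hβ1 hε1 x hx y hy z hz
  -- contradiction
  obtain ⟨x, hx, hx1⟩ : ∃ x ∈ X0, x ≠ 1 := by
    by_contra hcon
    push Not at hcon
    have h3 : X0 = ⊥ := by
      rw [eq_bot_iff]
      exact fun x hx => Subgroup.mem_bot.2 (hcon x hx)
    have h4 := R.card_X
    rw [h3, Subgroup.card_bot] at h4
    have h5 : 1 < 2 ^ (w - 1) := Nat.one_lt_two_pow (by have := R.six; omega)
    omega
  obtain ⟨y, hy, z, hz, h3⟩ := R.tri x hx hx1 c hc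
  exact h3 (k1 x hx y hy z hz)

end Row

end Cfsg.Agent.Omega.EH3.Kf.Tri

end

section


/-!
# EH3, Lie rows in characteristic 2: piece K5, type `A_n` (helper827; blueprints/OMEGA-EH3-KF3-helper227.md)

`list_A : NodeOK cs h i m` and not all triples killed (for `m = 1`) ==> `n = 1`, or `n = 5`, `i = 2`, `m = 1`.
-/

set_option autoImplicit false
set_option linter.unusedSectionVars false

namespace Cfsg.Agent.Omega.EH3.Kf.ListA

open CoxeterSystem Cfsg.Agent.ChevalleyStructure.CoxeterGeom Cfsg.Agent.Tits.Roots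
  Cfsg.Agent.Nodes.RootsA Cfsg.Agent.Omega.EH3.Kf.Node
open Cfsg.Agent.LieRecognition.BNCox (cA cA_apply)

variable {n : ℕ} {W : Type*} [Group W] {cs : CoxeterSystem (cA n) W} {A : Fin n → Fin n → ℤ} {h : IsCartan (cA n) A}

theorem exists_perm (w : W) : ∃ σ : Equiv.Perm (Fin (n + 1)), ∀ a b, rep cs h w (rtA a b) = rtA (σ a) (σ b) := by
  obtain ⟨ω, rfl⟩ := cs.wordProd_surjective w
  induction ω with
  | nil => exact ⟨1, fun a b => by rw [wordProd_nil, map_one, Module.End.one_apply]; rfl⟩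
  | cons j ω ih =>
    obtain ⟨σ, hσ⟩ := ih
    exact ⟨Equiv.swap j.castSucc j.succ * σ, fun a b => by
      rw [wordProd_cons, rep_mul_apply, hσ, rep_simple_rtA]; rfl⟩

theorem rtA_one {a b : Fin (n + 1)} {i : Fin n} (ha : a.val ≤ i.val) (hb : i.val < b.val) : rtA a b i = 1 := by
  rw [rtA_apply, if_pos ha, if_neg (by omega)]; rfl

theorem of_rtA_one {a b : Fin (n + 1)} {i : Fin n} (h1 : rtA a b i = 1) : a.val ≤ i.val ∧ i.val < b.val := by
  rw [rtA_apply] at h1
  split_ifs at h1 <;> omega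

theorem of_rtA_neg_one {a b : Fin (n + 1)} {i : Fin n} (h1 : rtA a b i = -1) : b.val ≤ i.val ∧ i.val < a.val := by
  rw [rtA_apply] at h1
  split_ifs at h1 <;> omega

/-- **(E)** for `A_n`. -/
theorem eq_of_opp {i : Fin n} (hE : ∃ w : W, ∀ x, IsRoot cs h x → x i = 1 → (rep cs h w x) i = -1) :
    n = 2 * i.val + 1 := by
  obtain ⟨w, hw⟩ := hE
  obtain ⟨σ, hσ⟩ := exists_perm (cs := cs) (h := h) w
  have hi := i.2
  have key : ∀ a b : Fin (n + 1), a.val ≤ i.val → i.val < b.val → (σ b).val ≤ i.val ∧ i.val < (σ a).val := by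
    intro a b ha hb
    have h1 := hw (rtA a b) (isRoot_rtA cs h (fun e => by rw [e] at ha; omega)) (rtA_one ha hb)
    rw [hσ] at h1
    exact of_rtA_neg_one h1
  have c1 : (Finset.Iic i.castSucc).card = i.val + 1 := by
    rw [Fin.card_Iic]; rfl
  have c2 : (Finset.Iic i.castSucc)ᶜ.card = n - i.val := by
    rw [Finset.card_compl, c1, Fintype.card_fin]; omega
  have m1 : ∀ a : Fin (n + 1), a ∈ Finset.Iic i.castSucc ↔ a.val ≤ i.val := fun a => by
    rw [Finset.mem_Iic]; exact Iff.rfl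
  have h1 : (Finset.Iic i.castSucc).card ≤ ((Finset.Iic i.castSucc)ᶜ).card := by
    refine Finset.card_le_card_of_injOn σ ?_ σ.injective.injOn
    intro a ha
    rw [Finset.mem_coe, m1] at ha
    rw [Finset.mem_coe, Finset.mem_compl, m1]
    have := (key a (Fin.last n) ha (by rw [Fin.val_last]; exact hi)).2
    omega
  have h2 : ((Finset.Iic i.castSucc)ᶜ).card ≤ (Finset.Iic i.castSucc).card := by
    refine Finset.card_le_card_of_injOn σ ?_ σ.injective.injOn
    intro a ha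
    rw [Finset.mem_coe, Finset.mem_compl, m1] at ha
    rw [Finset.mem_coe, m1]
    exact (key 0 a (by simp) (by omega)).1
  rw [c1, c2] at h1 h2
  omega

theorem co_sub (x y : Fin n → ℤ) (j : ℕ) : co (x - y) j = co x j - co y j := by
  unfold co
  split_ifs <;> (try simp only [Pi.sub_apply]) <;> ring

/-- **(F)** for `A_n`. -/
theorem orth_le {i : Fin n} {m : ℕ} (hn : n = 2 * i.val + 1)
    (hF : ∀ s : Finset (Fin n → ℤ), (∀ x ∈ s, IsRoot cs h x ∧ x i = 1) →
      (∀ x ∈ s, ∀ y ∈ s, x ≠ y → ¬ IsRoot cs h (x - y)) → m * s.card ≤ 3) : m * (i.val + 1) ≤ 3 := by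
  classical
  let f : Fin (i.val + 1) → (Fin n → ℤ) := fun d => rtA ⟨d.val, by omega⟩ ⟨n - d.val, by omega⟩
  have hf : ∀ d, (f d) i = 1 := fun d => rtA_one (by show d.val ≤ i.val; omega)
    (by show i.val < n - d.val; have := d.2; omega)
  have hinj : Function.Injective f := by
    intro d e hde
    have hne : (⟨d.val, by omega⟩ : Fin (n + 1)) ≠ ⟨n - d.val, by omega⟩ := by
      intro h0
      have h1 : d.val = n - d.val := congrArg Fin.val h0
      have := d.2
      omega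
    have := congrArg Fin.val (rtA_inj hne hde).1
    exact Fin.ext this
  have h1 := hF (Finset.univ.image f) (by
    intro x hx
    obtain ⟨d, -, rfl⟩ := Finset.mem_image.1 hx
    refine ⟨isRoot_rtA cs h ?_, hf d⟩
    intro h0
    have h1 : d.val = n - d.val := congrArg Fin.val h0
    have := d.2
    omega) (by
    intro x hx y hy hxy
    obtain ⟨d, -, rfl⟩ := Finset.mem_image.1 hx
    obtain ⟨e, -, rfl⟩ := Finset.mem_image.1 hy
    have hde : d.val ≠ e.val := fun h0 => hxy (by rw [Fin.ext h0])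
    intro hr
    obtain ⟨a, b, hab, hxe⟩ := (isRoot_iff cs h).1 hr
    have e1 := congrArg (fun x => co x d.val) hxe
    have e2 := congrArg (fun x => co x (n - e.val)) hxe
    simp only [co_sub, f] at e1 e2
    have g1 := co_rtA (n := n) ⟨d.val, by omega⟩ ⟨n - d.val, by omega⟩ ⟨d.val, by omega⟩
    have g2 := co_rtA (n := n) ⟨e.val, by omega⟩ ⟨n - e.val, by omega⟩ ⟨d.val, by omega⟩
    have g3 := co_rtA (n := n) a b ⟨d.val, by omega⟩
    have g4 := co_rtA (n := n) ⟨d.val, by omega⟩ ⟨n - d.val, by omega⟩ ⟨n - e.val, by omega⟩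
    have g5 := co_rtA (n := n) ⟨e.val, by omega⟩ ⟨n - e.val, by omega⟩ ⟨n - e.val, by omega⟩
    have g6 := co_rtA (n := n) a b ⟨n - e.val, by omega⟩
    simp only [Fin.ext_iff] at g1 g2 g3 g4 g5 g6
    rw [g1, g2, g3] at e1
    rw [g4, g5, g6] at e2
    have hd := d.2
    have he := e.2
    rw [if_pos trivial, if_neg (by omega), if_neg hde, if_neg (by omega)] at e1
    rw [if_neg (by omega), if_neg (by omega), if_neg (by omega), if_pos trivial] at e2
    split_ifs at e1 e2 <;> omega)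
  rwa [Finset.card_image_of_injective _ hinj, Finset.card_univ, Fintype.card_fin] at h1

/-! ### `A_3` -/

/-- the root given by two codes -/
def r3 (a b : Fin 4) : Fin 3 → ℤ := rtA (n := 3) a b

def isR (x : Fin 3 → ℤ) : Prop := ∃ a b : Fin 4, a ≠ b ∧ x = r3 a b

instance (x : Fin 3 → ℤ) : Decidable (isR x) := by unfold isR; infer_instance

def kd (α β ε : Fin 3 → ℤ) : Prop :=
  ∃ c d : Fin 4, c ≠ d ∧ (r3 c d) 1 = 0 ∧ isR (β - r3 c d) ∧ (isR (α + r3 c d) → α + r3 c d = ε) ∧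
    (isR (ε + r3 c d) → ε + r3 c d = α)

instance (α β ε : Fin 3 → ℤ) : Decidable (kd α β ε) := by unfold kd; infer_instance

def hf (p : Fin 2 × Fin 2) : Fin 3 → ℤ := r3 ⟨p.1.val, by omega⟩ ⟨p.2.val + 2, by omega⟩

set_option maxRecDepth 100000 in
set_option synthInstance.maxHeartbeats 400000 in
theorem kd_all : ∀ p q r : Fin 2 × Fin 2, p ≠ q → q ≠ r → p ≠ r →
    kd (hf p) (hf q) (hf r) ∨ kd (hf q) (hf p) (hf r) ∨ kd (hf p) (hf r) (hf q) := by decide

theorem kills_A3 {W : Type*} [Group W] (cs : CoxeterSystem (cA 3) W) {A : Fin 3 → Fin 3 → ℤ}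
    (h : IsCartan (cA 3) A) : Kills cs h 1 := by
  have hR : ∀ x, IsRoot cs h x ↔ isR x := fun x => isRoot_iff cs h
  have hK : ∀ α β ε, kd α β ε → Killed cs h 1 α β ε := by
    rintro α β ε ⟨c, d, h1, h2, h3, h4, h5⟩
    exact ⟨r3 c d, (hR _).2 ⟨c, d, h1, rfl⟩, h2, (hR _).2 h3, fun h6 => h4 ((hR _).1 h6), fun h6 => h5 ((hR _).1 h6)⟩
  have hc : ∀ x, IsRoot cs h x → x 1 = 1 → ∃ p, x = hf p := by
    intro x hx hx1
    obtain ⟨a, b, -, rfl⟩ := (isRoot_iff cs h).1 hx
    obtain ⟨h1, h2⟩ := of_rtA_one hx1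
    have h1' : a.val ≤ 1 := h1
    have h2' : 1 < b.val := h2
    have hb := b.2
    refine ⟨(⟨a.val, by omega⟩, ⟨b.val - 2, by omega⟩), ?_⟩
    unfold hf r3
    congr 1
    exact Fin.ext (by simp; omega)
  intro α β ε hα hβ hε hα1 hβ1 hε1 h1 h2 h3
  obtain ⟨p, rfl⟩ := hc α hα hα1
  obtain ⟨q, rfl⟩ := hc β hβ hβ1
  obtain ⟨r, rfl⟩ := hc ε hε hε1
  rcases kd_all p q r (fun e => h1 (by rw [e])) (fun e => h2 (by rw [e])) (fun e => h3 (by rw [e])) with h4 | h4 | h4
  · exact Or.inl (hK _ _ _ h4)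
  · exact Or.inr (Or.inl (hK _ _ _ h4))
  · exact Or.inr (Or.inr (hK _ _ _ h4))

/-- **Type `A_n`.** -/
theorem list_A {i : Fin n} {m : ℕ} (hm : 1 ≤ m) (N : NodeOK cs h i m) (hG : m = 1 → ¬ Kills cs h i) :
    (n = 1 ∧ m ≤ 3) ∨ (n = 5 ∧ i.val = 2 ∧ m = 1) := by
  have h1 := eq_of_opp N.opp
  have h2 := orth_le h1 N.orth
  have h3 : i.val ≤ 2 := by
    by_contra h4
    have : 1 * 4 ≤ m * (i.val + 1) := Nat.mul_le_mul hm (by omega)
    omega
  obtain h4 | h4 | h4 : i.val = 0 ∨ i.val = 1 ∨ i.val = 2 := by omega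
  · left
    exact ⟨by omega, N.le_three⟩
  · exfalso
    have hn : n = 3 := by omega
    subst hn
    have h5 : i = 1 := Fin.ext h4
    subst h5
    have h6 : m = 1 := by
      rw [h4] at h2
      omega
    exact hG h6 (kills_A3 cs h)
  · right
    refine ⟨by omega, h4, ?_⟩
    rw [h4] at h2
    omega

end Cfsg.Agent.Omega.EH3.Kf.ListA

end

section


/-!
# EH3, Lie rows in characteristic 2: piece K5, type `D_{n+2}` (helper827; blueprints/OMEGA-EH3-KF3-helper227.md)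

`list_D : NodeOK cs h i m` and not all triples killed (for `m = 1`) ==> `n = 4` (type `D_6`), `i = 4` or `5`, `m = 1`.
-/

set_option autoImplicit false
set_option linter.unusedSectionVars false

namespace Cfsg.Agent.Omega.EH3.Kf.ListD

open CoxeterSystem Cfsg.Agent.ChevalleyStructure.CoxeterGeom Cfsg.Agent.Tits.Roots
  Cfsg.Agent.Nodes.TypeD Cfsg.Agent.Omega.EH3.Kf.Node
open Cfsg.Agent.Nodes.TypeC (wt wt_apply ng ng_fst ng_snd ng_ng wt_ng)

variable {n : ℕ}

/-! ### The Cartan matrix -/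

theorem M_ne (i j : Fin (n + 2)) : M n i j ≠ 4 ∧ M n i j ≠ 6 := by
  rw [M_apply]
  split_ifs <;> constructor <;> decide

theorem A_eq {B : Fin (n + 2) → Fin (n + 2) → ℤ} (h : IsCartan (M n) B) : B = A n := by
  funext i j
  rw [Nodes.SimplyLaced.cart_eq (fun i j => (M_ne i j).1) (fun i j => (M_ne i j).2) h,
    Nodes.SimplyLaced.cart_eq (fun i j => (M_ne i j).1) (fun i j => (M_ne i j).2) (isCartan n)]

/-! ### The form in `ε`-coordinates -/

/-- the standard form -/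
def ip (u v : Fin (n + 2) → ℤ) : ℤ := ∑ k, u k * v k

theorem ip_add_left (u u' v : Fin (n + 2) → ℤ) : ip (u + u') v = ip u v + ip u' v := by
  simp only [ip, Pi.add_apply, add_mul, Finset.sum_add_distrib]

theorem ip_add_right (u v v' : Fin (n + 2) → ℤ) : ip u (v + v') = ip u v + ip u v' := by
  simp only [ip, Pi.add_apply, mul_add, Finset.sum_add_distrib]

theorem ip_comm (u v : Fin (n + 2) → ℤ) : ip u v = ip v u := by
  simp only [ip, mul_comm]

theorem ip_wt_right (u : Fin (n + 2) → ℤ) (a : Fin (n + 2) × Bool) :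
    ip u (wt a) = (if a.2 then 1 else -1) * u a.1 := by
  unfold ip
  simp only [wt_apply]
  rw [Finset.sum_eq_single a.1]
  · rw [if_pos rfl, mul_comm]
  · intro k _ hk
    rw [if_neg hk, mul_zero]
  · intro h0
    exact absurd (Finset.mem_univ _) h0

theorem ip_wt (a b : Fin (n + 2) × Bool) :
    ip (wt a) (wt b) = if a.1 = b.1 then (if a.2 = b.2 then 1 else -1) else 0 := by
  rw [ip_wt_right, wt_apply]
  by_cases h1 : a.1 = b.1
  · rw [if_pos h1.symm, if_pos h1]
    cases a.2 <;> cases b.2 <;> rfl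
  · rw [if_neg (Ne.symm h1), if_neg h1, mul_zero]

theorem ip_wt_ne {a b : Fin (n + 2) × Bool} (h1 : a.1 ≠ b.1) : ip (wt a) (wt b) = 0 := by rw [ip_wt, if_neg h1]

theorem ip_wt_self (a : Fin (n + 2) × Bool) : ip (wt a) (wt a) = 1 := by rw [ip_wt, if_pos rfl, if_pos rfl]

theorem ip_wt_ng (a : Fin (n + 2) × Bool) : ip (wt a) (wt (ng a)) = -1 := by
  rw [ip_wt, ng_fst, if_pos rfl, ng_snd, if_neg]
  cases a.2 <;> decide

theorem ip_ng_right (u : Fin (n + 2) → ℤ) (a : Fin (n + 2) × Bool) : ip u (wt (ng a)) = -ip u (wt a) := by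
  rw [ip_wt_right, ip_wt_right, ng_fst, ng_snd]
  cases a.2 <;> simp

section Root

variable {W : Type*} [Group W] {cs : CoxeterSystem (M n) W}

theorem ip_root {x : Fin (n + 2) → ℤ} (hx : IsRoot cs (isCartan n) x) : ip (ee x) (ee x) = 2 := by
  obtain ⟨a, b, hab, e⟩ := exists_of_isRoot cs hx
  rw [e, ip_add_left, ip_add_right, ip_add_right, ip_wt_self, ip_wt_self, ip_wt_ne hab, ip_wt_ne (Ne.symm hab)]
  rfl

theorem not_add {x y : Fin (n + 2) → ℤ} (hx : IsRoot cs (isCartan n) x) (hy : IsRoot cs (isCartan n) y)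
    (h0 : 0 ≤ ip (ee x) (ee y)) : ¬ IsRoot cs (isCartan n) (x + y) := by
  intro h1
  have h2 := ip_root h1
  rw [ee_add, ip_add_left, ip_add_right, ip_add_right, ip_root hx, ip_root hy, ip_comm (ee y)] at h2
  omega

theorem not_sub {x y : Fin (n + 2) → ℤ} (hx : IsRoot cs (isCartan n) x) (hy : IsRoot cs (isCartan n) y)
    (h0 : ip (ee x) (ee y) = 0) : ¬ IsRoot cs (isCartan n) (x - y) := by
  intro h1
  have h2 := ip_root h1
  have h3 : ee (x - y) = ee x + ee (-y) := by rw [← ee_add, sub_eq_add_neg]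
  have h4 := ip_root hy.neg
  have h5 : ip (ee x) (ee (-y)) = 0 := by
    rw [ee_neg]
    have : ip (ee x) (-ee y) = -ip (ee x) (ee y) := by simp [ip]
    rw [this, h0, neg_zero]
  rw [h3, ip_add_left, ip_add_right, ip_add_right, ip_root hx, h4, ip_comm (ee (-y)), h5] at h2
  omega

/-- the root with given coordinates -/
theorem exists_root {a b : Fin (n + 2) × Bool} (hab : a.1 ≠ b.1) :
    ∃ x, IsRoot cs (isCartan n) x ∧ ee x = wt a + wt b := rt_of_ok (cs := cs) hab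

theorem isRoot_of {x : Fin (n + 2) → ℤ} {a b : Fin (n + 2) × Bool} (hab : a.1 ≠ b.1) (e : ee x = wt a + wt b) :
    IsRoot cs (isCartan n) x := isRoot_iff.2 ⟨a, b, hab, e⟩

end Root

/-! ### Coefficients -/

theorem sum_ee (x : Fin (n + 2) → ℤ) (m : Fin (n + 2)) : ∑ k ∈ Finset.Iic m, ee x k =
    if (m : ℕ) < n then x m else if (m : ℕ) = n then x m + x (Fin.last (n + 1)) else 2 * x m := by
  have h1 : ∀ k, ee x k = ∑ j, x j * bt j k := by
    intro k
    simp [ee, Finset.sum_apply]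
  simp only [h1]
  rw [Finset.sum_comm]
  simp only [← Finset.mul_sum, sum_bt]
  have hm := m.2
  rw [Fin.sum_univ_castSucc]
  have h2 : ∀ i : Fin (n + 1), ((i.castSucc : Fin (n + 2)) : ℕ) + 1 < n + 2 := fun i => by
    have := i.2
    simp only [Fin.val_castSucc]
    omega
  have h3 : ¬ ((Fin.last (n + 1) : Fin (n + 2)) : ℕ) + 1 < n + 2 := by simp
  simp only [h2, h3, if_true, if_false]
  by_cases h4 : (m : ℕ) < n + 1
  · have h5 : m = (⟨m, h4⟩ : Fin (n + 1)).castSucc := by ext; simp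
    rw [Finset.sum_eq_single (⟨m, h4⟩ : Fin (n + 1))]
    · rw [← h5, if_pos rfl]
      split_ifs <;> omega
    · intro j _ hj
      rw [if_neg, mul_zero]
      intro h'
      apply hj
      ext
      have := congrArg Fin.val h'
      simpa using this.symm
    · simp
  · have h5 : m = Fin.last (n + 1) := by ext; simp; omega
    rw [Finset.sum_eq_zero]
    · subst h5
      have h6 : ((Fin.last (n + 1) : Fin (n + 2)) : ℕ) = n + 1 := by simp
      rw [h6, if_neg (by omega), if_pos rfl, if_neg (by omega), if_neg (by omega)]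
      ring
    · intro j _
      rw [if_neg, mul_zero]
      rintro h'
      have := congrArg Fin.val h'
      have hj := j.2
      simp at this
      omega

theorem coef_zero (hn : 0 < n) (x : Fin (n + 2) → ℤ) : x 0 = ee x 0 := by
  have h1 := sum_ee x 0
  have h2 : Finset.Iic (0 : Fin (n + 2)) = {0} := by
    ext k
    simp only [Finset.mem_Iic, Finset.mem_singleton]
    exact Fin.le_zero_iff
  rw [h2, Finset.sum_singleton] at h1
  rw [h1, Fin.val_zero, if_pos hn]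

/-- the signs of the node `i ∈ {n, n + 1}` -/
def g0 (i j : Fin (n + 2)) : ℤ := if (i : ℕ) = n ∧ (j : ℕ) = n + 1 then -1 else 1

theorem g0_cases (i j : Fin (n + 2)) : g0 i j = 1 ∨ g0 i j = -1 := by
  unfold g0; split_ifs <;> simp

theorem coef_spin {i : Fin (n + 2)} (hi : n ≤ (i : ℕ)) (x : Fin (n + 2) → ℤ) : 2 * x i = ∑ j, g0 i j * ee x j := by
  have h1 := sum_ee x (Fin.last (n + 1))
  have h2 : Finset.Iic (Fin.last (n + 1)) = Finset.univ := by
    ext k
    simp only [Finset.mem_Iic, Finset.mem_univ, iff_true]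
    exact Fin.le_last k
  rw [h2, Fin.val_last, if_neg (by omega), if_neg (by omega)] at h1
  have hi2 := i.2
  by_cases h3 : (i : ℕ) = n
  · have h4 := sum_ee x i
    rw [if_neg (by omega), if_pos h3] at h4
    have h5 : ∑ k, ee x k = ∑ k ∈ Finset.Iic i, ee x k + ee x (Fin.last (n + 1)) := by
      have e1 : (Finset.univ : Finset (Fin (n + 2))) = insert (Fin.last (n + 1)) (Finset.Iic i) := by
        ext k
        simp only [Finset.mem_univ, Finset.mem_insert, Finset.mem_Iic, true_iff]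
        by_cases h6 : k = Fin.last (n + 1)
        · exact Or.inl h6
        · right
          have h7 : (k : ℕ) ≠ n + 1 := fun e => h6 (Fin.ext (by rw [e, Fin.val_last]))
          have h8 := k.2
          show (k : ℕ) ≤ (i : ℕ)
          omega
      rw [e1, Finset.sum_insert, add_comm]
      rw [Finset.mem_Iic]
      intro h6
      have h7 : n + 1 ≤ (i : ℕ) := h6
      omega
    have h6 : ∑ j, g0 i j * ee x j = ∑ k, ee x k - 2 * ee x (Fin.last (n + 1)) := by
      have e2 : ∀ j, g0 i j * ee x j = ee x j + (if j = Fin.last (n + 1) then -2 * ee x j else 0) := by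
        intro j
        unfold g0
        by_cases h7 : j = Fin.last (n + 1)
        · rw [if_pos h7, if_pos ⟨h3, by rw [h7, Fin.val_last]⟩]; ring
        · rw [if_neg h7, if_neg]
          · ring
          · rintro ⟨-, h8⟩
            exact h7 (Fin.ext (by rw [h8, Fin.val_last]))
      simp only [e2, Finset.sum_add_distrib, Finset.sum_ite_eq', Finset.mem_univ, if_true]
      ring
    rw [h6]
    linarith
  · have h4 : i = Fin.last (n + 1) := Fin.ext (by rw [Fin.val_last]; omega)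
    rw [h4, ← h1]
    refine Finset.sum_congr rfl fun j _ => ?_
    unfold g0
    rw [if_neg, one_mul]
    rintro ⟨h5, -⟩
    rw [Fin.val_last] at h5
    omega

/-! ### The nodes `1 ≤ i < n` -/

section Nodes

variable {W : Type*} [Group W] {cs : CoxeterSystem (M n) W}

theorem node_cases {i : Fin (n + 2)} (h1 : ∀ x, IsRoot cs (isCartan n) x → x i ≤ 1) : (i : ℕ) = 0 ∨ n ≤ (i : ℕ) := by
  by_contra h2
  push Not at h2
  have h01 : ((0 : Fin (n + 2)), true).1 ≠ ((1 : Fin (n + 2)), true).1 := by simp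
  obtain ⟨x, hx, e⟩ := exists_root (cs := cs) h01
  have h3 := sum_ee x i
  rw [if_pos h2.2, e] at h3
  have h4 : ∑ k ∈ Finset.Iic i, (wt ((0 : Fin (n + 2)), true) + wt ((1 : Fin (n + 2)), true)) k = 2 := by
    simp only [Pi.add_apply, Finset.sum_add_distrib, wt, Finset.sum_pi_single', Finset.mem_Iic]
    have a0 : (0 : Fin (n + 2)) ≤ i := Fin.zero_le i
    have a1 : (1 : Fin (n + 2)) ≤ i := by
      rw [Fin.le_def]
      have : ((1 : Fin (n + 2)) : ℕ) = 1 := rfl
      omega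
    rw [if_pos a0, if_pos a1]
    rfl
  rw [h4] at h3
  have := h1 x hx
  omega

/-! ### The node `0` -/

theorem of_zero (hn : 0 < n) {x : Fin (n + 2) → ℤ} (hx : IsRoot cs (isCartan n) x) (h1 : x 0 = 1) :
    ∃ b : Fin (n + 2) × Bool, b.1 ≠ 0 ∧ ee x = wt ((0 : Fin (n + 2)), true) + wt b := by
  obtain ⟨a, b, hab, e⟩ := exists_of_isRoot cs hx
  rw [coef_zero hn x, e, Pi.add_apply, wt_apply, wt_apply] at h1
  have hab' : a.1 ≠ b.1 := hab
  by_cases ha : (0 : Fin (n + 2)) = a.1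
  · have hb : (0 : Fin (n + 2)) ≠ b.1 := fun h => hab' (ha.symm.trans h)
    rw [if_pos ha, if_neg hb] at h1
    refine ⟨b, hb.symm, ?_⟩
    have : a = ((0 : Fin (n + 2)), true) := by
      refine Prod.ext ha.symm ?_
      cases h2 : a.2
      · rw [h2] at h1; simp at h1
      · rfl
    rw [e, this]
  · by_cases hb : (0 : Fin (n + 2)) = b.1
    · rw [if_neg ha, if_pos hb] at h1
      refine ⟨a, fun h => ha h.symm, ?_⟩
      have : b = ((0 : Fin (n + 2)), true) := by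
        refine Prod.ext hb.symm ?_
        cases h2 : b.2
        · rw [h2] at h1; simp at h1
        · rfl
      rw [e, this]
      exact add_comm _ _
    · rw [if_neg ha, if_neg hb] at h1
      omega

theorem killed_zero (hn : 2 ≤ n) {α β ε : Fin (n + 2) → ℤ} (hα : IsRoot cs (isCartan n) α)
    (hε : IsRoot cs (isCartan n) ε) {b1 b2 b3 : Fin (n + 2) × Bool}
    (e1 : ee α = wt ((0 : Fin (n + 2)), true) + wt b1) (e2 : ee β = wt ((0 : Fin (n + 2)), true) + wt b2)
    (e3 : ee ε = wt ((0 : Fin (n + 2)), true) + wt b3) (h2 : b2.1 ≠ 0)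
    (h12 : b1.1 ≠ b2.1) (h32 : b3.1 ≠ b2.1) : Killed cs (isCartan n) 0 α β ε := by
  classical
  obtain ⟨k, hk⟩ : ∃ k : Fin (n + 2), k ∉ ({0, b1.1, b2.1} : Finset (Fin (n + 2))) := by
    by_contra hc
    push Not at hc
    have c1 : (Finset.univ : Finset (Fin (n + 2))) ⊆ {0, b1.1, b2.1} := fun k _ => hc k
    have c2 := Finset.card_le_card c1
    have c3 := Finset.card_le_three (a := (0 : Fin (n + 2))) (b := b1.1) (c := b2.1)
    rw [Finset.card_univ, Fintype.card_fin] at c2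
    omega
  simp only [Finset.mem_insert, Finset.mem_singleton, not_or] at hk
  obtain ⟨k0, k1, k2⟩ := hk
  obtain ⟨d, hd1, hd2⟩ : ∃ d : Fin (n + 2) × Bool, d.1 = k ∧ 0 ≤ ip (wt b3) (wt d) := by
    by_cases h4 : b3.1 = k
    · exact ⟨b3, h4, by rw [ip_wt_self]; omega⟩
    · exact ⟨(k, true), rfl, by rw [ip_wt_ne h4]⟩
  have hd0 : (0 : Fin (n + 2)) ≠ d.1 := by rw [hd1]; exact Ne.symm k0
  have hbd : b2.1 ≠ d.1 := by rw [hd1]; exact Ne.symm k2
  obtain ⟨δ, hδ, e⟩ := exists_root (cs := cs) hbd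
  have z0 : ∀ b : Fin (n + 2) × Bool, b.1 ≠ 0 → ip (wt ((0 : Fin (n + 2)), true)) (wt b) = 0 :=
    fun b hb => ip_wt_ne (Ne.symm hb)
  refine ⟨δ, hδ, ?_, ?_, fun h4 => absurd h4 (not_add hα hδ ?_), fun h4 => absurd h4 (not_add hε hδ ?_)⟩
  · rw [coef_zero (by omega) δ, e, Pi.add_apply, wt_apply, wt_apply, if_neg (Ne.symm h2), if_neg hd0]
    rfl
  · refine isRoot_of (a := ((0 : Fin (n + 2)), true)) (b := ng d) (by rw [ng_fst]; exact hd0) ?_
    rw [sub_eq_add_neg, ee_add, ee_neg, e2, e, wt_ng]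
    abel
  · rw [e1, e, ip_add_left, ip_add_right, ip_add_right, z0 _ h2, z0 _ (Ne.symm hd0), ip_wt_ne h12,
      ip_wt_ne (by rw [hd1]; exact Ne.symm k1)]
    omega
  · rw [e3, e, ip_add_left, ip_add_right, ip_add_right, z0 _ h2, z0 _ (Ne.symm hd0), ip_wt_ne h32]
    omega

theorem kills_zero (hn : 2 ≤ n) : Kills cs (isCartan n) 0 := by
  intro α β ε hα hβ hε hα1 hβ1 hε1 h1 h2 h3
  obtain ⟨b1, k1, e1⟩ := of_zero (by omega) hα hα1
  obtain ⟨b2, k2, e2⟩ := of_zero (by omega) hβ hβ1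
  obtain ⟨b3, k3, e3⟩ := of_zero (by omega) hε hε1
  have n12 : b1 ≠ b2 := fun h => h1 (ee_injective (by rw [e1, e2, h]))
  have n23 : b2 ≠ b3 := fun h => h2 (ee_injective (by rw [e2, e3, h]))
  have n13 : b1 ≠ b3 := fun h => h3 (ee_injective (by rw [e1, e3, h]))
  by_cases c12 : b1.1 = b2.1
  · have c13 : b1.1 ≠ b3.1 := by
      intro c13
      have d12 : b1.2 ≠ b2.2 := fun h => n12 (Prod.ext c12 h)
      have d13 : b1.2 ≠ b3.2 := fun h => n13 (Prod.ext c13 h)
      have d23 : b2.2 ≠ b3.2 := fun h => n23 (Prod.ext (c12.symm.trans c13) h)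
      revert d12 d13 d23
      cases b1.2 <;> cases b2.2 <;> cases b3.2 <;> simp
    exact Or.inr (Or.inr (killed_zero hn hα hβ e1 e3 e2 k3 c13 (fun h => c13 (c12.trans h))))
  · by_cases c32 : b3.1 = b2.1
    · exact Or.inr (Or.inl (killed_zero hn hβ hε e2 e1 e3 k1 (Ne.symm c12) (fun h => c12 (h.symm.trans c32))))
    · exact Or.inl (killed_zero hn hα hε e1 e2 e3 k2 c12 c32)

/-! ### The spin nodes -/

theorem ip_bt (g : Fin (n + 2) → ℤ) (k : Fin (n + 2)) : ip g (bt k) = Cf k g := by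
  unfold bt
  rw [ip_add_right, ip_wt_right, ip_wt_right]
  unfold nx Cf
  by_cases h : (k : ℕ) + 1 < n + 2
  · rw [dif_pos h, dif_pos h]
    simp only [if_true, Bool.false_eq_true, if_false]
    ring
  · rw [dif_neg h, dif_neg h]
    simp only [if_true]
    ring

theorem ip_sub_smul_right (u v : Fin (n + 2) → ℤ) (c : ℤ) (b : Fin (n + 2) → ℤ) :
    ip u (v - c • b) = ip u v - c * ip u b := by
  simp only [ip, Pi.sub_apply, Pi.smul_apply, smul_eq_mul, mul_sub, Finset.sum_sub_distrib, Finset.mul_sum]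
  congr 1
  exact Finset.sum_congr rfl fun _ _ => by ring

theorem Cf_even {g : Fin (n + 2) → ℤ} (hg : ∀ j, g j % 2 = 1) (k : Fin (n + 2)) : Cf k g % 2 = 0 := by
  unfold Cf
  split_ifs with h
  · have h1 := hg k
    have h2 := hg ⟨k + 1, h⟩
    omega
  · have h1 := hg k
    have h2 := hg (pd n)
    omega

theorem sum_bt_all (k : Fin (n + 2)) : (∑ j, bt k j) = 0 ∨ (∑ j, bt k j) = 2 := by
  have h1 : ∑ j, bt k j = ip (fun _ => 1) (bt k) := by simp [ip]
  rw [h1, ip_bt]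
  unfold Cf
  split_ifs <;> simp

theorem exists_sign (i : Fin (n + 2)) (hi : n ≤ (i : ℕ)) (w : W) : ∃ g : Fin (n + 2) → ℤ, (∀ j, g j % 2 = 1) ∧
    (∑ j, g j - ∑ j, g0 i j) % 4 = 0 ∧ ∀ x, 2 * (rep cs (isCartan n) w x) i = ip g (ee x) := by
  induction w using cs.simple_induction_right with
  | one =>
    refine ⟨g0 i, fun j => ?_, by simp, fun x => ?_⟩
    · rcases g0_cases i j with h | h <;> rw [h] <;> rfl
    · rw [map_one, Module.End.one_apply, coef_spin hi]; rfl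
  | mul_simple_right w k ih =>
    obtain ⟨g, h1, h2, h3⟩ := ih
    have hc := Cf_even h1 k
    refine ⟨g - Cf k g • bt k, fun j => ?_, ?_, fun x => ?_⟩
    · rw [Pi.sub_apply, Pi.smul_apply, smul_eq_mul]
      have h4 := h1 j
      obtain ⟨c, hc⟩ : ∃ c, Cf k g = 2 * c := ⟨Cf k g / 2, by omega⟩
      rw [hc, mul_assoc]
      omega
    · have h4 : ∑ j, (g - Cf k g • bt k) j = ∑ j, g j - Cf k g * ∑ j, bt k j := by
        simp only [Pi.sub_apply, Pi.smul_apply, smul_eq_mul, Finset.sum_sub_distrib, Finset.mul_sum]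
      rw [h4]
      rcases sum_bt_all k with h5 | h5 <;> rw [h5] <;> omega
    · rw [rep_mul_apply, rep_simple, h3, ee_refl, ip_sub_smul_right, ip_bt, ip_comm (g - Cf k g • bt k),
        ip_sub_smul_right, ip_bt, ip_comm (ee x) g]
      ring

/-- the signed index `j` with the sign of `g0` -/
def sp (i j : Fin (n + 2)) : Fin (n + 2) × Bool := (j, decide (g0 i j = 1))

theorem ip_sp (g : Fin (n + 2) → ℤ) (i j : Fin (n + 2)) : ip g (wt (sp i j)) = g0 i j * g j := by
  rw [ip_wt_right]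
  unfold sp
  rcases g0_cases i j with h | h <;> rw [h] <;> simp

theorem coef_sp {i : Fin (n + 2)} (hi : n ≤ (i : ℕ)) {x : Fin (n + 2) → ℤ} {a b : Fin (n + 2)}
    (e : ee x = wt (sp i a) + wt (sp i b)) : x i = 1 := by
  have h1 : 2 * x i = ip (g0 i) (ee x) := coef_spin hi x
  rw [e, ip_add_right, ip_sp, ip_sp] at h1
  rcases g0_cases i a with h2 | h2 <;> rcases g0_cases i b with h3 | h3 <;> rw [h2, h3] at h1 <;> omega

theorem of_coef {i : Fin (n + 2)} (hi : n ≤ (i : ℕ)) {x : Fin (n + 2) → ℤ} (hx : IsRoot cs (isCartan n) x)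
    (hx1 : x i = 1) : ∃ a b : Fin (n + 2), a ≠ b ∧ ee x = wt (sp i a) + wt (sp i b) := by
  obtain ⟨a, b, hab, e⟩ := exists_of_isRoot cs hx
  have h1 : 2 * x i = ip (g0 i) (ee x) := coef_spin hi x
  rw [hx1, e, ip_add_right, ip_wt_right, ip_wt_right] at h1
  have key : ∀ c : Fin (n + 2) × Bool, (if c.2 then 1 else -1) * g0 i c.1 ≤ 1 ∧
      ((if c.2 then 1 else -1) * g0 i c.1 = 1 → c = sp i c.1) := by
    intro c
    unfold sp
    rcases g0_cases i c.1 with h | h <;> rw [h] <;> cases h2 : c.2 <;> simp <;> exact Prod.ext rfl h2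
  have k1 := key a
  have k2 := key b
  refine ⟨a.1, b.1, hab, ?_⟩
  rw [e, ← k1.2 (by omega), ← k2.2 (by omega)]

/-- **(E)** for the spin nodes. -/
theorem even_of_opp (hn : 2 ≤ n) {i : Fin (n + 2)} (hi : n ≤ (i : ℕ))
    (hE : ∃ w : W, ∀ x, IsRoot cs (isCartan n) x → x i = 1 → (rep cs (isCartan n) w x) i = -1) : n % 2 = 0 := by
  obtain ⟨w, hw⟩ := hE
  obtain ⟨g, h1, h2, h3⟩ := exists_sign (cs := cs) i hi w
  have key : ∀ a b : Fin (n + 2), a ≠ b → g0 i a * g a + g0 i b * g b = -2 := by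
    intro a b hab
    obtain ⟨x, hx, e⟩ := exists_root (cs := cs) (a := sp i a) (b := sp i b) hab
    have h4 := hw x hx (coef_sp hi e)
    have h5 := h3 x
    rw [h4, e, ip_add_right, ip_sp, ip_sp] at h5
    omega
  have key2 : ∀ a, g a = -g0 i a := by
    intro a
    obtain ⟨b, c, hab, hac, hbc⟩ : ∃ b c : Fin (n + 2), a ≠ b ∧ a ≠ c ∧ b ≠ c := by
      classical
      have c1 : 2 ≤ ((Finset.univ : Finset (Fin (n + 2))).erase a).card := by
        rw [Finset.card_erase_of_mem (Finset.mem_univ a), Finset.card_univ, Fintype.card_fin]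
        omega
      obtain ⟨b, hb, c, hc, hbc⟩ := Finset.one_lt_card.1 (lt_of_lt_of_le one_lt_two c1)
      exact ⟨b, c, (Finset.ne_of_mem_erase hb).symm, (Finset.ne_of_mem_erase hc).symm, hbc⟩
    have k1 := key a b hab
    have k2 := key a c hac
    have k3 := key b c hbc
    have k4 : g0 i a * g a = -1 := by omega
    rcases g0_cases i a with h | h <;> rw [h] at k4 ⊢ <;> omega
  have h4 : ∑ j, g j = -∑ j, g0 i j := by
    rw [← Finset.sum_neg_distrib]
    exact Finset.sum_congr rfl fun j _ => key2 j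
  have h5 : ∀ s : Finset (Fin (n + 2)), (∑ j ∈ s, g0 i j - s.card) % 2 = 0 := by
    classical
    intro s
    induction s using Finset.induction_on with
    | empty => simp
    | insert a s ha ih =>
      rw [Finset.sum_insert ha, Finset.card_insert_of_notMem ha]
      push_cast
      rcases g0_cases i a with h | h <;> rw [h] <;> omega
  have h6 := h5 Finset.univ
  rw [Finset.card_univ, Fintype.card_fin] at h6
  push_cast at h6
  omega

/-- **(F)** for the spin nodes. -/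
theorem orth_le {i : Fin (n + 2)} (hi : n ≤ (i : ℕ)) {m c : ℕ} (hc : n + 2 = 2 * c)
    (hF : ∀ s : Finset (Fin (n + 2) → ℤ), (∀ x ∈ s, IsRoot cs (isCartan n) x ∧ x i = 1) →
      (∀ x ∈ s, ∀ y ∈ s, x ≠ y → ¬ IsRoot cs (isCartan n) (x - y)) → m * s.card ≤ 3) : m * c ≤ 3 := by
  classical
  have h1 : ∀ d : Fin c, ∃ x, IsRoot cs (isCartan n) x ∧
      ee x = wt (sp i ⟨2 * d.val, by omega⟩) + wt (sp i ⟨2 * d.val + 1, by omega⟩) := by
    intro d
    refine exists_root (cs := cs) ?_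
    intro h
    have := congrArg Fin.val h
    simp [sp] at this
  choose f hf1 hf2 using h1
  have hip : ∀ d e, d ≠ e → ip (ee (f d)) (ee (f e)) = 0 := by
    intro d e hde
    have hde' : d.val ≠ e.val := fun h => hde (Fin.ext h)
    rw [hf2, hf2, ip_add_left, ip_add_right, ip_add_right, ip_wt_ne, ip_wt_ne, ip_wt_ne, ip_wt_ne] <;>
      (try rfl) <;> (intro h; have := congrArg Fin.val h; simp only [sp] at this; omega)
  have hinj : Function.Injective f := by
    intro d e hde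
    by_contra hne
    have h2 := hip d e hne
    rw [hde, ip_root (hf1 e)] at h2
    omega
  have h2 := hF (Finset.univ.image f) (by
    intro x hx
    obtain ⟨d, -, rfl⟩ := Finset.mem_image.1 hx
    exact ⟨hf1 d, coef_sp hi (hf2 d)⟩) (by
    intro x hx y hy hxy
    obtain ⟨d, -, rfl⟩ := Finset.mem_image.1 hx
    obtain ⟨e, -, rfl⟩ := Finset.mem_image.1 hy
    exact not_sub (hf1 d) (hf1 e) (hip d e (fun h => hxy (by rw [h]))))
  rwa [Finset.card_image_of_injective _ hinj, Finset.card_univ, Fintype.card_fin] at h2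

end Nodes

/-! ### The spin nodes of `D_4` -/

/-- `j` is one of the two indices -/
def In {N : ℕ} (p : Fin N × Fin N) (j : Fin N) : Prop := j = p.1 ∨ j = p.2

instance {N : ℕ} (p : Fin N × Fin N) (j : Fin N) : Decidable (In p j) := by unfold In; infer_instance

def kd {N : ℕ} (p q r : Fin N × Fin N) : Prop :=
  ∃ j k : Fin N, In q j ∧ ¬ In q k ∧ ¬ (In p k ∧ ¬ In p j) ∧ ¬ (In r k ∧ ¬ In r j)

instance {N : ℕ} (p q r : Fin N × Fin N) : Decidable (kd p q r) := by unfold kd; infer_instance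

/-- the table of pairs -/
def tb (c : Fin 6) : Fin 4 × Fin 4 :=
  match c with
  | 0 => (0, 1) | 1 => (0, 2) | 2 => (0, 3) | 3 => (1, 2) | 4 => (1, 3) | 5 => (2, 3)

set_option maxRecDepth 100000 in
theorem kd_all : ∀ p q r : Fin 6, p ≠ q → q ≠ r → p ≠ r →
    kd (tb p) (tb q) (tb r) ∨ kd (tb q) (tb p) (tb r) ∨ kd (tb p) (tb r) (tb q) := by decide

theorem tb_surj : ∀ a b : Fin 4, a ≠ b → ∃ c, tb c = (a, b) ∨ tb c = (b, a) := by decide

theorem tb_ne : ∀ c, (tb c).1 ≠ (tb c).2 := by decide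

theorem ip_pair (i : Fin (n + 2)) {p : Fin (n + 2) × Fin (n + 2)} (hp : p.1 ≠ p.2) (j : Fin (n + 2)) :
    ip (wt (sp i p.1) + wt (sp i p.2)) (wt (sp i j)) = if In p j then 1 else 0 := by
  rw [ip_add_left]
  by_cases h1 : j = p.1
  · rw [if_pos (show In p j from Or.inl h1), h1, ip_wt_self, ip_wt_ne (a := sp i p.2) (b := sp i p.1) hp.symm, add_zero]
  · by_cases h2 : j = p.2
    · rw [if_pos (show In p j from Or.inr h2), h2, ip_wt_self, ip_wt_ne (a := sp i p.1) (b := sp i p.2) hp, zero_add]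
    · rw [if_neg (show ¬ In p j from fun h => h.elim h1 h2), ip_wt_ne (a := sp i p.1) (b := sp i j) (Ne.symm h1),
        ip_wt_ne (a := sp i p.2) (b := sp i j) (Ne.symm h2), add_zero]

section Last

variable {W : Type*} [Group W] {cs : CoxeterSystem (M n) W}

theorem killed_spin {i : Fin (n + 2)} (hi : n ≤ (i : ℕ)) {α β ε : Fin (n + 2) → ℤ}
    (hα : IsRoot cs (isCartan n) α) (hε : IsRoot cs (isCartan n) ε) {p q r : Fin (n + 2) × Fin (n + 2)}
    (hp : p.1 ≠ p.2) (hr : r.1 ≠ r.2)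
    (e1 : ee α = wt (sp i p.1) + wt (sp i p.2)) (e2 : ee β = wt (sp i q.1) + wt (sp i q.2))
    (e3 : ee ε = wt (sp i r.1) + wt (sp i r.2)) (hk : kd p q r) : Killed cs (isCartan n) i α β ε := by
  obtain ⟨j, k, h1, h2, h3, h4⟩ := hk
  have hjk : j ≠ k := fun h => h2 (h ▸ h1)
  obtain ⟨δ, hδ, e⟩ := exists_root (cs := cs) (a := sp i j) (b := ng (sp i k)) hjk
  have key : ∀ (x : Fin (n + 2) → ℤ) (s : Fin (n + 2) × Fin (n + 2)), s.1 ≠ s.2 →
      ee x = wt (sp i s.1) + wt (sp i s.2) → ¬ (In s k ∧ ¬ In s j) → 0 ≤ ip (ee x) (ee δ) := by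
    intro x s hs ex hn
    rw [ex, e, ip_add_right, ip_ng_right, ip_pair i hs, ip_pair i hs]
    by_cases c1 : In s k
    · have c2 : In s j := by
        by_contra c2
        exact hn ⟨c1, c2⟩
      rw [if_pos c1, if_pos c2]
      omega
    · rw [if_neg c1]
      split_ifs <;> omega
  refine ⟨δ, hδ, ?_, ?_, fun h5 => absurd h5 (not_add hα hδ (key α p hp e1 h3)),
    fun h5 => absurd h5 (not_add hε hδ (key ε r hr e3 h4))⟩
  · have h5 : 2 * δ i = ip (g0 i) (ee δ) := coef_spin hi δ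
    rw [e, ip_add_right, ip_ng_right, ip_sp, ip_sp] at h5
    rcases g0_cases i j with h6 | h6 <;> rcases g0_cases i k with h7 | h7 <;> rw [h6, h7] at h5 <;> omega
  · rcases h1 with h1 | h1
    · have hk2 : q.2 ≠ k := fun h => h2 (Or.inr h.symm)
      refine isRoot_of (a := sp i q.2) (b := sp i k) hk2 ?_
      rw [sub_eq_add_neg, ee_add, ee_neg, e2, e, wt_ng, h1]
      abel
    · have hk2 : q.1 ≠ k := fun h => h2 (Or.inl h.symm)
      refine isRoot_of (a := sp i q.1) (b := sp i k) hk2 ?_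
      rw [sub_eq_add_neg, ee_add, ee_neg, e2, e, wt_ng, h1]
      abel

end Last

theorem kills_spin {W : Type*} [Group W] {cs : CoxeterSystem (M 2) W} {i : Fin (2 + 2)} (hi : 2 ≤ (i : ℕ)) :
    Kills cs (isCartan 2) i := by
  have hc : ∀ x, IsRoot cs (isCartan 2) x → x i = 1 → ∃ c, ee x = wt (sp i (tb c).1) + wt (sp i (tb c).2) := by
    intro x hx hx1
    obtain ⟨a, b, hab, e⟩ := of_coef hi hx hx1
    obtain ⟨c, hc | hc⟩ := tb_surj a b hab
    · exact ⟨c, by rw [hc]; exact e⟩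
    · exact ⟨c, by rw [hc]; exact e.trans (add_comm _ _)⟩
  intro α β ε hα hβ hε hα1 hβ1 hε1 h1 h2 h3
  obtain ⟨p, e1⟩ := hc α hα hα1
  obtain ⟨q, e2⟩ := hc β hβ hβ1
  obtain ⟨r, e3⟩ := hc ε hε hε1
  rcases kd_all p q r (fun e => h1 (ee_injective (by rw [e1, e2, e]))) (fun e => h2 (ee_injective (by rw [e2, e3, e])))
    (fun e => h3 (ee_injective (by rw [e1, e3, e]))) with h4 | h4 | h4
  · exact Or.inl (killed_spin hi hα hε (tb_ne p) (tb_ne r) e1 e2 e3 h4)
  · exact Or.inr (Or.inl (killed_spin hi hβ hε (tb_ne q) (tb_ne r) e2 e1 e3 h4))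
  · exact Or.inr (Or.inr (killed_spin hi hα hβ (tb_ne p) (tb_ne q) e1 e3 e2 h4))

/-- **Type `D_{n+2}`, `n ≥ 2`.** -/
theorem list_D {W : Type*} [Group W] {cs : CoxeterSystem (M n) W} {B : Fin (n + 2) → Fin (n + 2) → ℤ}
    {h : IsCartan (M n) B} {i : Fin (n + 2)} {m : ℕ} (hn : 2 ≤ n) (hm : 1 ≤ m) (N : NodeOK cs h i m)
    (hG : m = 1 → ¬ Kills cs h i) : n = 4 ∧ (i.val = 4 ∨ i.val = 5) ∧ m = 1 := by
  obtain rfl := A_eq h
  have hi2 := i.2
  rcases node_cases N.le_one with h1 | h1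
  · exfalso
    have hi : i = 0 := Fin.ext h1
    subst hi
    have h01 : ((0 : Fin (n + 2)), true).1 ≠ ((1 : Fin (n + 2)), true).1 := by simp
    have h02 : ((0 : Fin (n + 2)), true).1 ≠ ((1 : Fin (n + 2)), false).1 := by simp
    obtain ⟨x, hx, ex⟩ := exists_root (cs := cs) h01
    obtain ⟨y, hy, ey⟩ := exists_root (cs := cs) h02
    have hx0 : x 0 = 1 := by
      rw [coef_zero (by omega) x, ex]
      simp [wt_apply]
    have hy0 : y 0 = 1 := by
      rw [coef_zero (by omega) y, ey]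
      simp [wt_apply]
    have hxy : ip (ee x) (ee y) = 0 := by
      rw [ex, ey, ip_add_left, ip_add_right, ip_add_right, ip_wt_self, ip_wt_ne h02, ip_wt_ne (Ne.symm h01), ip_wt,
        if_pos rfl, if_neg (by simp)]
      rfl
    have hne : x ≠ y := by
      intro e
      rw [e, ip_root hy] at hxy
      omega
    have h2 := N.orth {x, y} (by
      intro z hz
      rw [Finset.mem_insert, Finset.mem_singleton] at hz
      rcases hz with rfl | rfl
      · exact ⟨hx, hx0⟩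
      · exact ⟨hy, hy0⟩) (by
      intro z hz z' hz' hne'
      rw [Finset.mem_insert, Finset.mem_singleton] at hz hz'
      rcases hz with rfl | rfl <;> rcases hz' with rfl | rfl
      · exact absurd rfl hne'
      · exact not_sub hx hy hxy
      · exact not_sub hy hx (by rw [ip_comm]; exact hxy)
      · exact absurd rfl hne')
    rw [Finset.card_pair hne] at h2
    exact hG (by omega) (kills_zero hn)
  · have h2 := even_of_opp hn h1 N.opp
    obtain ⟨c, hc⟩ : ∃ c, n + 2 = 2 * c := ⟨(n + 2) / 2, by omega⟩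
    have h3 := orth_le h1 hc N.orth
    have h4 : c ≤ 3 := by
      have : 1 * c ≤ m * c := Nat.mul_le_mul_right c hm
      omega
    have h5 : m = 1 := by
      by_contra h6
      have : 2 * c ≤ m * c := Nat.mul_le_mul_right c (by omega)
      omega
    obtain h6 | h6 : n = 2 ∨ n = 4 := by omega
    · exfalso
      subst h6
      exact hG h5 (kills_spin h1)
    · refine ⟨h6, ?_, h5⟩
      omega

end Cfsg.Agent.Omega.EH3.Kf.ListD

end

section


/-!
# EH3, Lie rows in characteristic 2: piece K5, types `E_6`, `E_7`, `E_8` (helper827; blueprints/OMEGA-EH3-KF3-helper227.md)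

* `list_E6 : ¬ NodeOK cs h i m` (`1 ≤ m`);
* `list_E7 : NodeOK cs h i m` (`1 ≤ m`) ==> `i = 6`, `m = 1`;
* `list_E8 : ¬ NodeOK cs h i m`.
-/

set_option autoImplicit false
set_option linter.unusedSectionVars false

namespace Cfsg.Agent.Omega.EH3.Kf.ListE

open CoxeterSystem CoxeterMatrix Cfsg.Agent.ChevalleyStructure.CoxeterGeom Cfsg.Agent.Tits.Roots
  Cfsg.Agent.Omega.EH3.Kf.Node

section General

variable {I W : Type*} [Fintype I] [DecidableEq I] [Group W] {M : CoxeterMatrix I} {cs : CoxeterSystem M W}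
  {A : I → I → ℤ} {h : IsCartan M A}

theorem base {x : I → ℤ} (j : I) (e : ∀ k, x k = if k = j then 1 else 0) : IsRoot cs h x := by
  have h1 : x = sr j := by
    funext k
    rw [e k, sr, Pi.single_apply]
  rw [h1]
  exact isRoot_sr cs h j

theorem up {x y : I → ℤ} (j : I) (hx : IsRoot cs h x) (hp : pairing A j x = -1)
    (e : ∀ k, y k = x k + if k = j then 1 else 0) : IsRoot cs h y := by
  have h1 := hx.act (cs.simple j)
  rw [rep_simple, refl_apply, hp] at h1
  have h2 : y = x - Pi.single j (-1) := by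
    funext k
    rw [e k, Pi.sub_apply, Pi.single_apply]
    split_ifs <;> omega
  rwa [h2]

/-- the quadratic form -/
def bq (A : I → I → ℤ) (x y : I → ℤ) : ℤ := ∑ i, x i * pairing A i y

theorem bq_sub_right (x y z : I → ℤ) : bq A x (y - z) = bq A x y - bq A x z := by
  have : ∀ i, pairing A i (y - z) = pairing A i y - pairing A i z := fun i => by
    simp only [pairing, Pi.sub_apply, mul_sub, Finset.sum_sub_distrib]
  simp only [bq, this, mul_sub, Finset.sum_sub_distrib]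

theorem bq_sub_left (x y z : I → ℤ) : bq A (x - y) z = bq A x z - bq A y z := by
  simp only [bq, Pi.sub_apply, sub_mul, Finset.sum_sub_distrib]

theorem bq_comm (hA : ∀ i j, A i j = A j i) (x y : I → ℤ) : bq A x y = bq A y x := by
  simp only [bq, pairing, Finset.mul_sum]
  rw [Finset.sum_comm]
  refine Finset.sum_congr rfl fun i _ => Finset.sum_congr rfl fun j _ => ?_
  rw [hA j i]
  ring

theorem bq_single_left (j : I) (c : ℤ) (y : I → ℤ) : bq A (Pi.single j c) y = c * pairing A j y := by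
  simp only [bq, Pi.single_apply, ite_mul, zero_mul, Finset.sum_ite_eq', Finset.mem_univ, if_true]

theorem bq_root (hA : ∀ i j, A i j = A j i) {x : I → ℤ} (hx : IsRoot cs h x) : bq A x x = 2 := by
  obtain ⟨w, i, rfl⟩ := hx
  induction w using cs.simple_induction_left with
  | one =>
    rw [map_one, Module.End.one_apply, sr, bq_single_left, pairing_single, h.diag]
    rfl
  | mul_simple_left w j ih =>
    rw [rep_mul_apply, rep_simple, refl_apply, bq_sub_left, bq_sub_right, bq_sub_right, ih, bq_single_left,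
      bq_single_left, bq_comm hA _ (Pi.single j _), bq_single_left, pairing_single, h.diag]
    ring

/-- A functional invariant modulo three. -/
theorem mod_three (c : I → ℤ) (hc : ∀ j, (∑ k, c k * A j k) % 3 = 0) (i : I) (w : W) :
    (∑ k, c k * (rep cs h w (sr k)) i - c i) % 3 = 0 := by
  induction w using cs.simple_induction_right with
  | one =>
    have h1 : ∑ k, c k * (rep cs h (1 : W) (sr k)) i = c i := by
      simp only [map_one, Module.End.one_apply, sr, Pi.single_apply, mul_ite, mul_one, mul_zero,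
        Finset.sum_ite_eq, Finset.mem_univ, if_true]
    rw [h1, sub_self]
    rfl
  | mul_simple_right w j ih =>
    have h1 : ∀ k, (rep cs h (w * cs.simple j) (sr k)) i = (rep cs h w (sr k)) i - A j k * (rep cs h w (sr j)) i := by
      intro k
      have h2 : refl A j (sr k) = sr k - A j k • sr j := by
        rw [refl_apply]
        congr 1
        rw [sr, pairing_single, mul_one]
        funext l
        rw [Pi.single_apply, Pi.smul_apply, sr, Pi.single_apply]
        split_ifs <;> simp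
      rw [rep_mul_apply, rep_simple, h2, map_sub, map_smul, Pi.sub_apply, Pi.smul_apply, smul_eq_mul]
    have h2 : ∑ k, c k * (rep cs h (w * cs.simple j) (sr k)) i =
        ∑ k, c k * (rep cs h w (sr k)) i - (∑ k, c k * A j k) * (rep cs h w (sr j)) i := by
      rw [Finset.sum_mul, ← Finset.sum_sub_distrib]
      exact Finset.sum_congr rfl fun k _ => by rw [h1]; ring
    obtain ⟨d, hd⟩ : ∃ d, ∑ k, c k * A j k = 3 * d := ⟨_, (Int.mul_ediv_cancel' (Int.dvd_of_emod_eq_zero (hc j))).symm⟩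
    rw [h2, hd, mul_assoc]
    omega

theorem opp_zero {i k : I} {w : W} (hw : ∀ x, IsRoot cs h x → x i = 1 → (rep cs h w x) i = -1)
    {x y : I → ℤ} (hx : IsRoot cs h x) (hy : IsRoot cs h y) (hx1 : x i = 1) (hy1 : y i = 1)
    (e : ∀ l, y l = x l + if l = k then 1 else 0) : (rep cs h w (sr k)) i = 0 := by
  have h1 : y = x + sr k := by
    funext l
    rw [e l, Pi.add_apply, sr, Pi.single_apply]
  have h2 := hw y hy hy1
  rw [h1, map_add, Pi.add_apply, hw x hx hx1] at h2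
  omega

end General

/-- The Cartan matrix of type `E_6`. -/
def C6 : Fin 6 → Fin 6 → ℤ :=
  ![![2, 0, -1, 0, 0, 0],
    ![0, 2, 0, -1, 0, 0],
    ![-1, 0, 2, -1, 0, 0],
    ![0, -1, -1, 2, -1, 0],
    ![0, 0, 0, -1, 2, -1],
    ![0, 0, 0, 0, -1, 2]]

set_option backward.isDefEq.respectTransparency false in
set_option maxRecDepth 100000 in
theorem ne6 : ∀ i j : Fin 6, E₆ i j ≠ 4 ∧ E₆ i j ≠ 6 := by decide

set_option maxRecDepth 100000 in
theorem tab6 : ∀ i j, (if i = j then 2 else if E₆ i j = 3 then -1 else 0) = C6 i j := by decide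

theorem A_eq6 {A : Fin 6 → Fin 6 → ℤ} (h : IsCartan E₆ A) : A = C6 := by
  funext i j
  rw [Nodes.SimplyLaced.cart_eq (fun i j => (ne6 i j).1) (fun i j => (ne6 i j).2) h, tab6]

/-- The Cartan matrix of type `E_7`. -/
def C7 : Fin 7 → Fin 7 → ℤ :=
  ![![2, 0, -1, 0, 0, 0, 0],
    ![0, 2, 0, -1, 0, 0, 0],
    ![-1, 0, 2, -1, 0, 0, 0],
    ![0, -1, -1, 2, -1, 0, 0],
    ![0, 0, 0, -1, 2, -1, 0],
    ![0, 0, 0, 0, -1, 2, -1],
    ![0, 0, 0, 0, 0, -1, 2]]

set_option backward.isDefEq.respectTransparency false in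
set_option maxRecDepth 100000 in
theorem ne7 : ∀ i j : Fin 7, E₇ i j ≠ 4 ∧ E₇ i j ≠ 6 := by decide

set_option maxRecDepth 100000 in
theorem tab7 : ∀ i j, (if i = j then 2 else if E₇ i j = 3 then -1 else 0) = C7 i j := by decide

theorem A_eq7 {A : Fin 7 → Fin 7 → ℤ} (h : IsCartan E₇ A) : A = C7 := by
  funext i j
  rw [Nodes.SimplyLaced.cart_eq (fun i j => (ne7 i j).1) (fun i j => (ne7 i j).2) h, tab7]

/-- The Cartan matrix of type `E_8`. -/
def C8 : Fin 8 → Fin 8 → ℤ :=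
  ![![2, 0, -1, 0, 0, 0, 0, 0],
    ![0, 2, 0, -1, 0, 0, 0, 0],
    ![-1, 0, 2, -1, 0, 0, 0, 0],
    ![0, -1, -1, 2, -1, 0, 0, 0],
    ![0, 0, 0, -1, 2, -1, 0, 0],
    ![0, 0, 0, 0, -1, 2, -1, 0],
    ![0, 0, 0, 0, 0, -1, 2, -1],
    ![0, 0, 0, 0, 0, 0, -1, 2]]

set_option backward.isDefEq.respectTransparency false in
set_option maxRecDepth 100000 in
theorem ne8 : ∀ i j : Fin 8, E₈ i j ≠ 4 ∧ E₈ i j ≠ 6 := by decide

set_option maxRecDepth 100000 in
theorem tab8 : ∀ i j, (if i = j then 2 else if E₈ i j = 3 then -1 else 0) = C8 i j := by decide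

theorem A_eq8 {A : Fin 8 → Fin 8 → ℤ} (h : IsCartan E₈ A) : A = C8 := by
  funext i j
  rw [Nodes.SimplyLaced.cart_eq (fun i j => (ne8 i j).1) (fun i j => (ne8 i j).2) h, tab8]

theorem top8 {W : Type*} [Group W] (cs : CoxeterSystem E₈ W) (h : IsCartan E₈ C8) :
    IsRoot cs h ![2, 3, 4, 6, 5, 4, 3, 2] := by
  have r0 : IsRoot cs h ![0, 0, 0, 0, 0, 0, 0, 1] := base 7 (by decide)
  have r1 : IsRoot cs h ![0, 0, 0, 0, 0, 0, 1, 1] := up 6 r0 (by decide) (by decide)
  have r2 : IsRoot cs h ![0, 0, 0, 0, 0, 1, 1, 1] := up 5 r1 (by decide) (by decide)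
  have r3 : IsRoot cs h ![0, 0, 0, 0, 1, 1, 1, 1] := up 4 r2 (by decide) (by decide)
  have r4 : IsRoot cs h ![0, 0, 0, 1, 1, 1, 1, 1] := up 3 r3 (by decide) (by decide)
  have r5 : IsRoot cs h ![0, 0, 1, 1, 1, 1, 1, 1] := up 2 r4 (by decide) (by decide)
  have r6 : IsRoot cs h ![0, 1, 1, 1, 1, 1, 1, 1] := up 1 r5 (by decide) (by decide)
  have r7 : IsRoot cs h ![0, 1, 1, 2, 1, 1, 1, 1] := up 3 r6 (by decide) (by decide)
  have r8 : IsRoot cs h ![0, 1, 1, 2, 2, 1, 1, 1] := up 4 r7 (by decide) (by decide)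
  have r9 : IsRoot cs h ![0, 1, 1, 2, 2, 2, 1, 1] := up 5 r8 (by decide) (by decide)
  have r10 : IsRoot cs h ![0, 1, 1, 2, 2, 2, 2, 1] := up 6 r9 (by decide) (by decide)
  have r11 : IsRoot cs h ![1, 1, 1, 2, 2, 2, 2, 1] := up 0 r10 (by decide) (by decide)
  have r12 : IsRoot cs h ![1, 1, 2, 2, 2, 2, 2, 1] := up 2 r11 (by decide) (by decide)
  have r13 : IsRoot cs h ![1, 1, 2, 3, 2, 2, 2, 1] := up 3 r12 (by decide) (by decide)
  have r14 : IsRoot cs h ![1, 1, 2, 3, 3, 2, 2, 1] := up 4 r13 (by decide) (by decide)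
  have r15 : IsRoot cs h ![1, 1, 2, 3, 3, 3, 2, 1] := up 5 r14 (by decide) (by decide)
  have r16 : IsRoot cs h ![1, 2, 2, 3, 3, 3, 2, 1] := up 1 r15 (by decide) (by decide)
  have r17 : IsRoot cs h ![1, 2, 2, 4, 3, 3, 2, 1] := up 3 r16 (by decide) (by decide)
  have r18 : IsRoot cs h ![1, 2, 2, 4, 4, 3, 2, 1] := up 4 r17 (by decide) (by decide)
  have r19 : IsRoot cs h ![1, 2, 3, 4, 4, 3, 2, 1] := up 2 r18 (by decide) (by decide)
  have r20 : IsRoot cs h ![1, 2, 3, 5, 4, 3, 2, 1] := up 3 r19 (by decide) (by decide)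
  have r21 : IsRoot cs h ![2, 2, 3, 5, 4, 3, 2, 1] := up 0 r20 (by decide) (by decide)
  have r22 : IsRoot cs h ![2, 2, 4, 5, 4, 3, 2, 1] := up 2 r21 (by decide) (by decide)
  have r23 : IsRoot cs h ![2, 3, 4, 5, 4, 3, 2, 1] := up 1 r22 (by decide) (by decide)
  have r24 : IsRoot cs h ![2, 3, 4, 6, 4, 3, 2, 1] := up 3 r23 (by decide) (by decide)
  have r25 : IsRoot cs h ![2, 3, 4, 6, 5, 3, 2, 1] := up 4 r24 (by decide) (by decide)
  have r26 : IsRoot cs h ![2, 3, 4, 6, 5, 4, 2, 1] := up 5 r25 (by decide) (by decide)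
  have r27 : IsRoot cs h ![2, 3, 4, 6, 5, 4, 3, 1] := up 6 r26 (by decide) (by decide)
  have r28 : IsRoot cs h ![2, 3, 4, 6, 5, 4, 3, 2] := up 7 r27 (by decide) (by decide)
  exact r28

theorem top7 {W : Type*} [Group W] (cs : CoxeterSystem E₇ W) (h : IsCartan E₇ C7) :
    IsRoot cs h ![2, 2, 3, 4, 3, 2, 1] := by
  have r0 : IsRoot cs h ![0, 0, 0, 0, 0, 0, 1] := base 6 (by decide)
  have r1 : IsRoot cs h ![0, 0, 0, 0, 0, 1, 1] := up 5 r0 (by decide) (by decide)
  have r2 : IsRoot cs h ![0, 0, 0, 0, 1, 1, 1] := up 4 r1 (by decide) (by decide)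
  have r3 : IsRoot cs h ![0, 0, 0, 1, 1, 1, 1] := up 3 r2 (by decide) (by decide)
  have r4 : IsRoot cs h ![0, 0, 1, 1, 1, 1, 1] := up 2 r3 (by decide) (by decide)
  have r5 : IsRoot cs h ![0, 1, 1, 1, 1, 1, 1] := up 1 r4 (by decide) (by decide)
  have r6 : IsRoot cs h ![0, 1, 1, 2, 1, 1, 1] := up 3 r5 (by decide) (by decide)
  have r7 : IsRoot cs h ![0, 1, 1, 2, 2, 1, 1] := up 4 r6 (by decide) (by decide)
  have r8 : IsRoot cs h ![0, 1, 1, 2, 2, 2, 1] := up 5 r7 (by decide) (by decide)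
  have r9 : IsRoot cs h ![1, 1, 1, 2, 2, 2, 1] := up 0 r8 (by decide) (by decide)
  have r10 : IsRoot cs h ![1, 1, 2, 2, 2, 2, 1] := up 2 r9 (by decide) (by decide)
  have r11 : IsRoot cs h ![1, 1, 2, 3, 2, 2, 1] := up 3 r10 (by decide) (by decide)
  have r12 : IsRoot cs h ![1, 1, 2, 3, 3, 2, 1] := up 4 r11 (by decide) (by decide)
  have r13 : IsRoot cs h ![1, 2, 2, 3, 3, 2, 1] := up 1 r12 (by decide) (by decide)
  have r14 : IsRoot cs h ![1, 2, 2, 4, 3, 2, 1] := up 3 r13 (by decide) (by decide)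
  have r15 : IsRoot cs h ![1, 2, 3, 4, 3, 2, 1] := up 2 r14 (by decide) (by decide)
  have r16 : IsRoot cs h ![2, 2, 3, 4, 3, 2, 1] := up 0 r15 (by decide) (by decide)
  exact r16

theorem mid7 {W : Type*} [Group W] (cs : CoxeterSystem E₇ W) (h : IsCartan E₇ C7) :
    IsRoot cs h ![0, 1, 1, 2, 2, 2, 1] := by
  have r0 : IsRoot cs h ![0, 0, 0, 0, 0, 0, 1] := base 6 (by decide)
  have r1 : IsRoot cs h ![0, 0, 0, 0, 0, 1, 1] := up 5 r0 (by decide) (by decide)
  have r2 : IsRoot cs h ![0, 0, 0, 0, 1, 1, 1] := up 4 r1 (by decide) (by decide)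
  have r3 : IsRoot cs h ![0, 0, 0, 1, 1, 1, 1] := up 3 r2 (by decide) (by decide)
  have r4 : IsRoot cs h ![0, 0, 1, 1, 1, 1, 1] := up 2 r3 (by decide) (by decide)
  have r5 : IsRoot cs h ![0, 1, 1, 1, 1, 1, 1] := up 1 r4 (by decide) (by decide)
  have r6 : IsRoot cs h ![0, 1, 1, 2, 1, 1, 1] := up 3 r5 (by decide) (by decide)
  have r7 : IsRoot cs h ![0, 1, 1, 2, 2, 1, 1] := up 4 r6 (by decide) (by decide)
  have r8 : IsRoot cs h ![0, 1, 1, 2, 2, 2, 1] := up 5 r7 (by decide) (by decide)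
  exact r8

theorem top6 {W : Type*} [Group W] (cs : CoxeterSystem E₆ W) (h : IsCartan E₆ C6) :
    IsRoot cs h ![1, 2, 2, 3, 2, 1] := by
  have r0 : IsRoot cs h ![0, 0, 0, 0, 0, 1] := base 5 (by decide)
  have r1 : IsRoot cs h ![0, 0, 0, 0, 1, 1] := up 4 r0 (by decide) (by decide)
  have r2 : IsRoot cs h ![0, 0, 0, 1, 1, 1] := up 3 r1 (by decide) (by decide)
  have r3 : IsRoot cs h ![0, 0, 1, 1, 1, 1] := up 2 r2 (by decide) (by decide)
  have r4 : IsRoot cs h ![0, 1, 1, 1, 1, 1] := up 1 r3 (by decide) (by decide)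
  have r5 : IsRoot cs h ![0, 1, 1, 2, 1, 1] := up 3 r4 (by decide) (by decide)
  have r6 : IsRoot cs h ![0, 1, 1, 2, 2, 1] := up 4 r5 (by decide) (by decide)
  have r7 : IsRoot cs h ![1, 1, 1, 2, 2, 1] := up 0 r6 (by decide) (by decide)
  have r8 : IsRoot cs h ![1, 1, 2, 2, 2, 1] := up 2 r7 (by decide) (by decide)
  have r9 : IsRoot cs h ![1, 1, 2, 3, 2, 1] := up 3 r8 (by decide) (by decide)
  have r10 : IsRoot cs h ![1, 2, 2, 3, 2, 1] := up 1 r9 (by decide) (by decide)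
  exact r10

theorem opp6_zero {W : Type*} [Group W] {cs : CoxeterSystem E₆ W} {h : IsCartan E₆ C6} {w : W}
    (hw : ∀ x, IsRoot cs h x → x 0 = 1 → (rep cs h w x) 0 = -1) : False := by
  have r0 : IsRoot cs h ![1, 0, 0, 0, 0, 0] := base 0 (by decide)
  have r2 : IsRoot cs h ![1, 0, 1, 0, 0, 0] := up 2 r0 (by decide) (by decide)
  have z2 := opp_zero (k := 2) hw r0 r2 (by decide) (by decide) (by decide)
  have r3 : IsRoot cs h ![1, 0, 1, 1, 0, 0] := up 3 r2 (by decide) (by decide)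
  have z3 := opp_zero (k := 3) hw r2 r3 (by decide) (by decide) (by decide)
  have r1 : IsRoot cs h ![1, 1, 1, 1, 0, 0] := up 1 r3 (by decide) (by decide)
  have z1 := opp_zero (k := 1) hw r3 r1 (by decide) (by decide) (by decide)
  have r4 : IsRoot cs h ![1, 0, 1, 1, 1, 0] := up 4 r3 (by decide) (by decide)
  have z4 := opp_zero (k := 4) hw r3 r4 (by decide) (by decide) (by decide)
  have r5 : IsRoot cs h ![1, 0, 1, 1, 1, 1] := up 5 r4 (by decide) (by decide)
  have z5 := opp_zero (k := 5) hw r4 r5 (by decide) (by decide) (by decide)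
  have zi := hw _ (isRoot_sr cs h 0) (sr_self 0)
  have h1 := mod_three (cs := cs) (h := h) ![1, 0, 2, 0, 1, 2] (by decide) 0 w
  rw [Fin.sum_univ_six, z1, z2, z3, z4, z5, zi] at h1
  revert h1
  decide

theorem opp6_five {W : Type*} [Group W] {cs : CoxeterSystem E₆ W} {h : IsCartan E₆ C6} {w : W}
    (hw : ∀ x, IsRoot cs h x → x 5 = 1 → (rep cs h w x) 5 = -1) : False := by
  have r5 : IsRoot cs h ![0, 0, 0, 0, 0, 1] := base 5 (by decide)
  have r4 : IsRoot cs h ![0, 0, 0, 0, 1, 1] := up 4 r5 (by decide) (by decide)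
  have z4 := opp_zero (k := 4) hw r5 r4 (by decide) (by decide) (by decide)
  have r3 : IsRoot cs h ![0, 0, 0, 1, 1, 1] := up 3 r4 (by decide) (by decide)
  have z3 := opp_zero (k := 3) hw r4 r3 (by decide) (by decide) (by decide)
  have r1 : IsRoot cs h ![0, 1, 0, 1, 1, 1] := up 1 r3 (by decide) (by decide)
  have z1 := opp_zero (k := 1) hw r3 r1 (by decide) (by decide) (by decide)
  have r2 : IsRoot cs h ![0, 0, 1, 1, 1, 1] := up 2 r3 (by decide) (by decide)
  have z2 := opp_zero (k := 2) hw r3 r2 (by decide) (by decide) (by decide)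
  have r0 : IsRoot cs h ![1, 0, 1, 1, 1, 1] := up 0 r2 (by decide) (by decide)
  have z0 := opp_zero (k := 0) hw r2 r0 (by decide) (by decide) (by decide)
  have zi := hw _ (isRoot_sr cs h 5) (sr_self 5)
  have h1 := mod_three (cs := cs) (h := h) ![1, 0, 2, 0, 1, 2] (by decide) 5 w
  rw [Fin.sum_univ_six, z0, z1, z2, z3, z4, zi] at h1
  revert h1
  decide

/-- **Type `E_6`.** -/
theorem list_E6 {W : Type*} [Group W] {cs : CoxeterSystem E₆ W} {A : Fin 6 → Fin 6 → ℤ} {h : IsCartan E₆ A}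
    {i : Fin 6} {m : ℕ} : ¬ NodeOK cs h i m := by
  intro N
  obtain rfl := A_eq6 h
  obtain ⟨w, hw⟩ := N.opp
  have h1 := N.le_one _ (top6 cs h)
  have h2 : i = 0 ∨ i = 5 := by
    revert h1
    clear N hw
    revert i
    decide
  rcases h2 with rfl | rfl
  · exact opp6_zero hw
  · exact opp6_five hw

/-- **Type `E_7`.** -/
theorem list_E7 {W : Type*} [Group W] {cs : CoxeterSystem E₇ W} {A : Fin 7 → Fin 7 → ℤ} {h : IsCartan E₇ A}
    {i : Fin 7} {m : ℕ} (hm : 1 ≤ m) (N : NodeOK cs h i m) : i = 6 ∧ m = 1 := by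
  obtain rfl := A_eq7 h
  have h1 := N.le_one _ (top7 cs h)
  have h2 : i = 6 := by
    revert h1
    clear N
    revert i
    decide
  subst h2
  refine ⟨rfl, ?_⟩
  have hsymm : ∀ i j, C7 i j = C7 j i := by decide
  have r1 := top7 cs h
  have r2 := mid7 cs h
  have r3 : IsRoot cs h ![0, 0, 0, 0, 0, 0, 1] := base 6 (by decide)
  have key : ∀ x y, IsRoot cs h x → IsRoot cs h y → bq C7 x y = 0 → ¬ IsRoot cs h (x - y) := by
    intro x y hx hy hxy hr
    have h3 := bq_root hsymm hr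
    rw [bq_sub_left, bq_sub_right, bq_sub_right, bq_root hsymm hx, bq_root hsymm hy, hxy, bq_comm hsymm y x, hxy] at h3
    omega
  have o12 : bq C7 ![2, 2, 3, 4, 3, 2, 1] ![0, 1, 1, 2, 2, 2, 1] = 0 := by decide
  have o13 : bq C7 ![2, 2, 3, 4, 3, 2, 1] ![0, 0, 0, 0, 0, 0, 1] = 0 := by decide
  have o23 : bq C7 ![0, 1, 1, 2, 2, 2, 1] ![0, 0, 0, 0, 0, 0, 1] = 0 := by decide
  have h3 := N.orth {![2, 2, 3, 4, 3, 2, 1], ![0, 1, 1, 2, 2, 2, 1], ![0, 0, 0, 0, 0, 0, 1]} (by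
    intro x hx
    simp only [Finset.mem_insert, Finset.mem_singleton] at hx
    rcases hx with rfl | rfl | rfl
    · exact ⟨r1, by decide⟩
    · exact ⟨r2, by decide⟩
    · exact ⟨r3, by decide⟩) (by
    intro x hx y hy hxy
    simp only [Finset.mem_insert, Finset.mem_singleton] at hx hy
    rcases hx with rfl | rfl | rfl <;> rcases hy with rfl | rfl | rfl
    · exact absurd rfl hxy
    · exact key _ _ r1 r2 o12
    · exact key _ _ r1 r3 o13
    · exact key _ _ r2 r1 (by rw [bq_comm hsymm]; exact o12)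
    · exact absurd rfl hxy
    · exact key _ _ r2 r3 o23
    · exact key _ _ r3 r1 (by rw [bq_comm hsymm]; exact o13)
    · exact key _ _ r3 r2 (by rw [bq_comm hsymm]; exact o23)
    · exact absurd rfl hxy)
  have h4 : ({![2, 2, 3, 4, 3, 2, 1], ![0, 1, 1, 2, 2, 2, 1], ![0, 0, 0, 0, 0, 0, 1]} : Finset (Fin 7 → ℤ)).card = 3 := by
    decide
  rw [h4] at h3
  omega

/-- **Type `E_8`.** -/
theorem list_E8 {W : Type*} [Group W] {cs : CoxeterSystem E₈ W} {A : Fin 8 → Fin 8 → ℤ} {h : IsCartan E₈ A}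
    {i : Fin 8} {m : ℕ} : ¬ NodeOK cs h i m := by
  intro N
  obtain rfl := A_eq8 h
  have h1 := N.le_one _ (top8 cs h)
  revert h1
  clear N
  revert i
  decide

end Cfsg.Agent.Omega.EH3.Kf.ListE

end

section


/-!
# Leading roots (EH3, Lie rows in characteristic 2; helper134)

`f : (I → ℤ) →+ ℤ` positive on the simple roots, `F f t = ⟨X z : z > 0, f z ≥ t⟩`.

* `Strict cs h X` : root groups of positive roots are abelian and `⁅X s, X t⁆ ≤ ⟨X (i s + j t) : i, j ≥ 1⟩`;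
* `Cst cs h X s t` : `⁅a, b⁆` is nontrivial in `X (s + t)` modulo the other `X (i s + j t)`, for `a, b ≠ 1`;
* `comm_F` : `⁅F s, F t⁆ ≤ F (s + t)`;
* `Ldg f r x` : `x = a o`, `1 ≠ a ∈ X r`, `o ∈ F (f r + 1)`;
* `lead_comm` : `Ldg r x`, `Ldg s y`, `Cst r s` ==> `Ldg (r + s) ⁅x, y⁆`;
* `Idl` : the leading roots of an abelian subgroup normalised by `U`: `Idl.add`, `Idl.false`.
-/

set_option autoImplicit false
set_option linter.unusedSectionVars false

namespace Cfsg.Agent.Omega.EH3.Kf.Lead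

open CoxeterSystem Cfsg.Agent.ChevalleyStructure.CoxeterGeom Cfsg.Agent.Tits.Roots Cfsg.Agent.Tits.Core
  Cfsg.Agent.Tits.RootComb Cfsg.Agent.Nodes.Comb Cfsg.Agent.Nodes.Reps Cfsg.Agent.Nodes.BNOf
  Cfsg.Agent.Nodes.StabComb Cfsg.Agent.Nodes.Bruhat Cfsg.Agent.KFacts.RgdPerf
open scoped commutatorElement

variable {I W Y : Type*} [Fintype I] [DecidableEq I] [Group W] [Group Y] {M : CoxeterMatrix I}
  {cs : CoxeterSystem M W} {A : I → I → ℤ} {h : IsCartan M A} {p : ℕ} {T : Subgroup Y} {n : I → Y}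
  {X : (I → ℤ) → Subgroup Y}

/-! ### Commutators of joins -/

section Gen

variable {G : Type*} [Group G]

/-- the elements of `B` whose commutators with the elements of `A` lie in `N` -/
def cz (A B N : Subgroup G) (hN : B ≤ Subgroup.normalizer (N : Set G)) : Subgroup G where
  carrier := {b | b ∈ B ∧ ∀ a ∈ A, ⁅a, b⁆ ∈ N}
  one_mem' := ⟨one_mem _, fun a _ => by rw [commutatorElement_one_right]; exact one_mem _⟩
  mul_mem' := by
    rintro b b' ⟨hb, h1⟩ ⟨hb', h2⟩
    refine ⟨mul_mem hb hb', fun a ha => ?_⟩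
    have e : ⁅a, b * b'⁆ = ⁅a, b⁆ * (b * ⁅a, b'⁆ * b⁻¹) := by
      rw [commutatorElement_def, commutatorElement_def, commutatorElement_def]; group
    rw [e]
    exact mul_mem (h1 a ha) ((Subgroup.mem_normalizer_iff.1 (hN hb) _).1 (h2 a ha))
  inv_mem' := by
    rintro b ⟨hb, h1⟩
    refine ⟨inv_mem hb, fun a ha => ?_⟩
    have e : ⁅a, b⁻¹⁆ = b⁻¹ * ⁅a, b⁆⁻¹ * b⁻¹⁻¹ := by
      rw [commutatorElement_def, commutatorElement_def]; group
    rw [e]
    exact (Subgroup.mem_normalizer_iff.1 (hN (inv_mem hb)) _).1 (inv_mem (h1 a ha))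

theorem commutator_le_right {κ : Type*} {A N : Subgroup G} {B : κ → Subgroup G}
    (hB : ∀ j, B j ≤ Subgroup.normalizer (N : Set G)) (h : ∀ j, ⁅A, B j⁆ ≤ N) : ⁅A, ⨆ j, B j⁆ ≤ N := by
  have hN : (⨆ j, B j) ≤ Subgroup.normalizer (N : Set G) := iSup_le hB
  have h1 : (⨆ j, B j) ≤ cz A (⨆ j, B j) N hN := iSup_le fun j b hb =>
    ⟨(le_iSup B j) hb, fun a ha => h j (Subgroup.commutator_mem_commutator ha hb)⟩
  rw [Subgroup.commutator_le]
  exact fun a ha b hb => (h1 hb).2 a ha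

theorem commutator_le_both {ι κ : Type*} {N : Subgroup G} {A : ι → Subgroup G} {B : κ → Subgroup G}
    (hA : ∀ i, A i ≤ Subgroup.normalizer (N : Set G)) (hB : ∀ j, B j ≤ Subgroup.normalizer (N : Set G))
    (h : ∀ i j, ⁅A i, B j⁆ ≤ N) : ⁅⨆ i, A i, ⨆ j, B j⁆ ≤ N := by
  rw [Subgroup.commutator_comm]
  refine commutator_le_right hA fun i => ?_
  rw [Subgroup.commutator_comm]
  exact commutator_le_right hB (h i)

end Gen

/-! ### The filtration -/

/-- the roots `i s + j t`, `i, j ≥ 1` -/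
def SumR (cs : CoxeterSystem M W) (h : IsCartan M A) (s t : I → ℤ) : Set (I → ℤ) :=
  {z | IsRoot cs h z ∧ ∃ i j : ℤ, 0 < i ∧ 0 < j ∧ z = i • s + j • t}

/-- the roots `i s + j t`, `i, j ≥ 1`, other than `s + t` -/
def SumR' (cs : CoxeterSystem M W) (h : IsCartan M A) (s t : I → ℤ) : Set (I → ℤ) :=
  {z | IsRoot cs h z ∧ ∃ i j : ℤ, 0 < i ∧ 0 < j ∧ 2 < i + j ∧ z = i • s + j • t}

/-- Commutators only involve sums. -/
structure Strict (cs : CoxeterSystem M W) (h : IsCartan M A) (X : (I → ℤ) → Subgroup Y) : Prop where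
  ab : ∀ r ∈ RGD.Pos cs h, ∀ a ∈ X r, ∀ b ∈ X r, a * b = b * a
  comm : ∀ s ∈ RGD.Pos cs h, ∀ t ∈ RGD.Pos cs h, s ≠ t → ∀ a ∈ X s, ∀ b ∈ X t,
    ⁅a, b⁆ ∈ RGD.Sup X (SumR cs h s t)

/-- The structure constant of `s`, `t` is nonzero. -/
def Cst (cs : CoxeterSystem M W) (h : IsCartan M A) (X : (I → ℤ) → Subgroup Y) (s t : I → ℤ) : Prop :=
  IsRoot cs h (s + t) ∧ ∀ a ∈ X s, a ≠ 1 → ∀ b ∈ X t, b ≠ 1 → ∃ d ∈ X (s + t), d ≠ 1 ∧
    ∃ e ∈ RGD.Sup X (SumR' cs h s t), ⁅a, b⁆ = d * e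

/-- the filtration -/
def F (cs : CoxeterSystem M W) (h : IsCartan M A) (X : (I → ℤ) → Subgroup Y) (f : (I → ℤ) →+ ℤ) (t : ℤ) : Subgroup Y :=
  RGD.Sup X {z | z ∈ RGD.Pos cs h ∧ t ≤ f z}

variable {f : (I → ℤ) →+ ℤ}

theorem F_mono {s t : ℤ} (hst : s ≤ t) : F cs h X f t ≤ F cs h X f s :=
  RGD.Sup_mono fun _ hz => ⟨hz.1, le_trans hst hz.2⟩

theorem X_le_F {z : I → ℤ} (hz : z ∈ RGD.Pos cs h) {t : ℤ} (ht : t ≤ f z) : X z ≤ F cs h X f t :=
  RGD.le_Sup (S := {z | z ∈ RGD.Pos cs h ∧ t ≤ f z}) ⟨hz, ht⟩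

theorem f_sum (x : I → ℤ) : f x = ∑ k, x k * f (sr k) := by
  have h1 : x = ∑ k, x k • (sr k : I → ℤ) := by
    funext j
    simp [Finset.sum_apply, sr, Pi.single_apply]
  conv_lhs => rw [h1, map_sum]
  exact Finset.sum_congr rfl fun k _ => by rw [map_zsmul, smul_eq_mul]

theorem f_pos (hf : ∀ i, 0 < f (sr i)) {z : I → ℤ} (hz : z ∈ RGD.Pos cs h) : 0 < f z := by
  rw [f_sum]
  obtain ⟨k, hk⟩ : ∃ k, 0 < z k := by
    by_contra hcon
    push Not at hcon
    exact hz.1.ne_zero (funext fun k => le_antisymm (hcon k) (hz.2 k))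
  exact Finset.sum_pos' (fun k _ => mul_nonneg (hz.2 k) (hf k).le) ⟨k, Finset.mem_univ k, mul_pos hk (hf k)⟩

theorem sum_mem {s t z : I → ℤ} (hs : s ∈ RGD.Pos cs h) (ht : t ∈ RGD.Pos cs h) (hz : z ∈ SumR cs h s t) :
    z ∈ RGD.Pos cs h := by
  obtain ⟨hzr, i, j, hi, hj, rfl⟩ := hz
  refine ⟨hzr, fun k => ?_⟩
  have h1 := mul_nonneg hi.le (hs.2 k)
  have h2 := mul_nonneg hj.le (ht.2 k)
  simpa using add_nonneg h1 h2

theorem f_sum_le (hf : ∀ i, 0 < f (sr i)) {s t z : I → ℤ} (hs : s ∈ RGD.Pos cs h) (ht : t ∈ RGD.Pos cs h)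
    (hz : z ∈ SumR cs h s t) : f s + f t ≤ f z := by
  obtain ⟨hzr, i, j, hi, hj, rfl⟩ := hz
  have h1 := f_pos hf hs
  have h2 := f_pos hf ht
  rw [map_add, map_zsmul, map_zsmul, smul_eq_mul, smul_eq_mul]
  nlinarith

theorem f_sum_lt (hf : ∀ i, 0 < f (sr i)) {s t z : I → ℤ} (hs : s ∈ RGD.Pos cs h) (ht : t ∈ RGD.Pos cs h)
    (hz : z ∈ SumR' cs h s t) : f s + f t + 1 ≤ f z := by
  obtain ⟨hzr, i, j, hi, hj, hij, rfl⟩ := hz
  have h1 := f_pos hf hs
  have h2 := f_pos hf ht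
  rw [map_add, map_zsmul, map_zsmul, smul_eq_mul, smul_eq_mul]
  have h3 : 1 ≤ i - 1 ∨ 1 ≤ j - 1 := by omega
  rcases h3 with h3 | h3
  · nlinarith
  · nlinarith

variable (S : Strict cs h X) (hf : ∀ i, 0 < f (sr i))

include S hf

theorem conj_F {t : ℤ} {r : I → ℤ} (hr : r ∈ RGD.Pos cs h) : X r ≤ Subgroup.normalizer (F cs h X f t : Set Y) := by
  have key : ∀ a ∈ X r, ∀ b ∈ F cs h X f t, a * b * a⁻¹ ∈ F cs h X f t := by
    intro a ha b hb
    have h1 : F cs h X f t ≤ (F cs h X f t).comap (MulAut.conj a).toMonoidHom := by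
      refine RGD.Sup_le fun z hz b hb => ?_
      rw [Subgroup.mem_comap]
      show a * b * a⁻¹ ∈ F cs h X f t
      have e : a * b * a⁻¹ = ⁅a, b⁆ * b := by rw [commutatorElement_def]; group
      rw [e]
      refine mul_mem ?_ (X_le_F hz.1 hz.2 hb)
      by_cases hrz : r = z
      · subst hrz
        have : ⁅a, b⁆ = 1 := by
          rw [commutatorElement_eq_one_iff_mul_comm]; exact S.ab r hr a ha b hb
        rw [this]; exact one_mem _
      · refine RGD.Sup_mono (fun y hy => ?_) (S.comm r hr z hz.1 hrz a ha b hb)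
        refine ⟨sum_mem hr hz.1 hy, ?_⟩
        have h2 := f_sum_le hf hr hz.1 hy
        have h3 := f_pos hf hr
        have h4 := hz.2
        omega
    exact h1 hb
  intro a ha
  rw [Subgroup.mem_normalizer_iff]
  intro b
  refine ⟨key a ha b, fun hb => ?_⟩
  have := key a⁻¹ (inv_mem ha) _ hb
  have e : a⁻¹ * (a * b * a⁻¹) * a⁻¹⁻¹ = b := by group
  rwa [e] at this

theorem F_normal {s t : ℤ} : F cs h X f s ≤ Subgroup.normalizer (F cs h X f t : Set Y) :=
  RGD.Sup_le fun _ hz => conj_F S hf hz.1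

/-- `⁅F s, F t⁆ ≤ F (s + t)` -/
theorem comm_F (s t : ℤ) : ⁅F cs h X f s, F cs h X f t⁆ ≤ F cs h X f (s + t) := by
  unfold F RGD.Sup
  refine commutator_le_both (fun z => conj_F S hf z.2.1) (fun z => conj_F S hf z.2.1) ?_
  rintro ⟨z, hz, hz1⟩ ⟨y, hy, hy1⟩
  rw [Subgroup.commutator_le]
  intro a ha b hb
  by_cases hzy : z = y
  · subst hzy
    have : ⁅a, b⁆ = 1 := by
      rw [commutatorElement_eq_one_iff_mul_comm]; exact S.ab z hz a ha b hb
    rw [this]; exact one_mem _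
  · refine RGD.Sup_mono (fun x hx => ?_) (S.comm z hz y hy hzy a ha b hb)
    refine ⟨sum_mem hz hy hx, ?_⟩
    have h2 := f_sum_le hf hz hy hx
    omega

omit S hf in
/-- `x` has leading root `r` -/
def Ldg (cs : CoxeterSystem M W) (h : IsCartan M A) (X : (I → ℤ) → Subgroup Y) (f : (I → ℤ) →+ ℤ)
    (r : I → ℤ) (x : Y) : Prop :=
  r ∈ RGD.Pos cs h ∧ ∃ a ∈ X r, a ≠ 1 ∧ ∃ o ∈ F cs h X f (f r + 1), x = a * o

theorem lead_comm {r s : I → ℤ} {x y : Y} (hx : Ldg cs h X f r x) (hy : Ldg cs h X f s y)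
    (hc : Cst cs h X r s) : Ldg cs h X f (r + s) ⁅x, y⁆ := by
  obtain ⟨hr, a, ha, ha1, o, ho, rfl⟩ := hx
  obtain ⟨hs, b, hb, hb1, q, hq, rfl⟩ := hy
  obtain ⟨hrs, hc⟩ := hc
  obtain ⟨d, hd, hd1, e, he, hde⟩ := hc a ha ha1 b hb hb1
  have hrsP : r + s ∈ RGD.Pos cs h := ⟨hrs, add_nonneg hr.2 hs.2⟩
  refine ⟨hrsP, d, hd, hd1, ?_⟩
  set N : Subgroup Y := F cs h X f (f (r + s) + 1) with hN
  have hfrs : f (r + s) = f r + f s := map_add f r s
  have hbF : b ∈ F cs h X f (f s) := X_le_F hs le_rfl hb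
  have haF : a ∈ F cs h X f (f r) := X_le_F hr le_rfl ha
  have hqF : q ∈ F cs h X f (f s) := F_mono (by omega) hq
  have h1 : ⁅o, b * q⁆ ∈ N := by
    have := comm_F S hf (f r + 1) (f s) (Subgroup.commutator_mem_commutator ho (mul_mem hbF hqF))
    rw [hN, hfrs]
    exact F_mono (by omega) this
  have h2 : ⁅a, q⁆ ∈ N := by
    have := comm_F S hf (f r) (f s + 1) (Subgroup.commutator_mem_commutator haF hq)
    rw [hN, hfrs]
    exact F_mono (by omega) this
  have h3 : e ∈ N := RGD.Sup_mono (fun z hz => by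
    have h4 := f_sum_lt hf hr hs hz
    obtain ⟨hz1, i, j, hi, hj, -, hz2⟩ := hz
    exact ⟨sum_mem hr hs ⟨hz1, i, j, hi, hj, hz2⟩, by omega⟩) he
  have hc' : ∀ g ∈ F cs h X f 0, ∀ u ∈ N, g * u * g⁻¹ ∈ N := fun g hg u hu =>
    (Subgroup.mem_normalizer_iff.1 (F_normal S hf hg) u).1 hu
  have hF0 : ∀ {z : I → ℤ}, z ∈ RGD.Pos cs h → X z ≤ F cs h X f 0 := fun {z} hz =>
    X_le_F hz (f_pos hf hz).le
  refine ⟨d⁻¹ * (a * ⁅o, b * q⁆ * a⁻¹) * d⁻¹⁻¹ * (e * (b * ⁅a, q⁆ * b⁻¹)), ?_, ?_⟩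
  · refine mul_mem (hc' d⁻¹ (inv_mem (hF0 hrsP hd)) _ (hc' a (hF0 hr ha) _ h1)) (mul_mem h3 (hc' b (hF0 hs hb) _ h2))
  · have e1 : ⁅a * o, b * q⁆ = (a * ⁅o, b * q⁆ * a⁻¹) * (⁅a, b⁆ * (b * ⁅a, q⁆ * b⁻¹)) := by
      simp only [commutatorElement_def]; group
    rw [e1, hde]; group

omit hf in
/-- a nontrivial element of a root group -/
theorem lead_of_mem {r : I → ℤ} (hr : r ∈ RGD.Pos cs h) {a : Y} (ha : a ∈ X r) (ha1 : a ≠ 1) : Ldg cs h X f r a :=
  ⟨hr, a, ha, ha1, 1, one_mem _, (mul_one a).symm⟩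

omit S hf in
/-- leading roots are unique in the weak sense that an element with a leading root is not `1` -/
theorem lead_ne_one (hinf : ∀ r ∈ RGD.Pos cs h, X r ⊓ F cs h X f (f r + 1) = ⊥) {r : I → ℤ} {x : Y}
    (hx : Ldg cs h X f r x) : x ≠ 1 := by
  obtain ⟨hr, a, ha, ha1, o, ho, rfl⟩ := hx
  intro h1
  apply ha1
  have h2 : a ∈ X r ⊓ F cs h X f (f r + 1) := by
    refine Subgroup.mem_inf.2 ⟨ha, ?_⟩
    rw [eq_inv_of_mul_eq_one_left h1]
    exact inv_mem ho
  rwa [hinf r hr, Subgroup.mem_bot] at h2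

omit S hf in
/-- `r` is the leading root of an element of `X0` -/
def Idl (cs : CoxeterSystem M W) (h : IsCartan M A) (X : (I → ℤ) → Subgroup Y) (f : (I → ℤ) →+ ℤ) (X0 : Subgroup Y)
    (r : I → ℤ) : Prop := ∃ x ∈ X0, Ldg cs h X f r x

/-- the leading roots form an ideal -/
theorem Idl.add [Finite W] (R : RGD cs h p T n X) {X0 : Subgroup Y}
    (hn : ∀ g ∈ RGD.Sup X (RGD.Pos cs h), ∀ x ∈ X0, g * x * g⁻¹ ∈ X0) {r s : I → ℤ} (hr : Idl cs h X f X0 r)
    (hs : s ∈ RGD.Pos cs h) (hc : Cst cs h X r s) : Idl cs h X f X0 (r + s) := by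
  obtain ⟨x, hx, hL⟩ := hr
  obtain ⟨b, hb, hb1⟩ := exists_ne R hs.1
  refine ⟨⁅x, b⁆, ?_, lead_comm S hf hL (lead_of_mem S hs hb hb1) hc⟩
  have e : ⁅x, b⁆ = x * (b * x⁻¹ * b⁻¹) := by rw [commutatorElement_def]; group
  rw [e]
  exact mul_mem hx (hn b (RGD.le_Sup hs hb) _ (inv_mem hx))

/-- the leading roots are pairwise not linked -/
theorem Idl.false (hinf : ∀ r ∈ RGD.Pos cs h, X r ⊓ F cs h X f (f r + 1) = ⊥) {X0 : Subgroup Y}
    (hab : ∀ x ∈ X0, ∀ y ∈ X0, x * y = y * x) {r s : I → ℤ} (hr : Idl cs h X f X0 r) (hs : Idl cs h X f X0 s)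
    (hc : Cst cs h X r s) : False := by
  obtain ⟨x, hx, hL⟩ := hr
  obtain ⟨y, hy, hL'⟩ := hs
  refine lead_ne_one hinf (lead_comm S hf hL hL' hc) ?_
  rw [commutatorElement_eq_one_iff_mul_comm]
  exact hab x hx y hy

end Cfsg.Agent.Omega.EH3.Kf.Lead

end

section


/-!
# EH3, Lie rows in characteristic 2: `PSp_{2n}(q)`, `q ≥ 4` even, `n ≥ 2` (helper924)

Over `ChevTwo.Sys` of type `C_n` (`KFacts/SysSp.sys_PSp`).

* `gd` : the commutator identities `TwC.Gd` (`q > 2`); `nas` : `TwC.NAS`;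
* `orbS`, `orbL` : the `W_J`-orbits of the node `0` (short) and of the last node (long);
* `false` : there is no `Row` with `|X_r| = 2 ^ m`, `m ≥ 2`.
-/

set_option autoImplicit false
set_option linter.unusedSectionVars false

namespace Cfsg.Agent.Omega.EH3.Kf.SpBig

open CoxeterSystem Cfsg.Agent.ChevalleyStructure.CoxeterGeom Cfsg.Agent.Tits.Roots Cfsg.Agent.Tits.Core
  Cfsg.Agent.Tits.RootComb Cfsg.Agent.Nodes.Comb Cfsg.Agent.Nodes.Reps Cfsg.Agent.Nodes.BNOf
  Cfsg.Agent.Nodes.StabComb Cfsg.Agent.Nodes.Bruhat Cfsg.Agent.Nodes.LeviDec Cfsg.Agent.Nodes.TypeC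
  Cfsg.Agent.Nodes.KindBC Cfsg.Agent.Nodes.Coroot Cfsg.Agent.KFacts.ChevTwo
  Cfsg.Agent.Omega.EH3.Kf.Base Cfsg.Agent.Omega.EH3.Kf.Cov Cfsg.Agent.Omega.EH3.Kf.TwC
open scoped commutatorElement

variable {n : ℕ} {W Y K : Type*} [Group W] [Group Y] [Field K] {cs : CoxeterSystem (CoxeterMatrix.B n) W}
  {e : (Fin n → ℤ) → K → Y} {T : Subgroup Y} {nn : Fin n → Y} {X : (Fin n → ℤ) → Subgroup Y}

theorem ee_rt_apply (a b : Fin n × Bool) (k : Fin n) : ee (rt a b) k =
    (if k = a.1 then (if a.2 then 1 else -1) else 0) + (if k = b.1 then (if b.2 then 1 else -1) else 0) := by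
  rw [ee_rt, Pi.add_apply, wt_apply, wt_apply]

theorem cpr_ne [Finite W] (a b c d : Fin n × Bool) (h : c.1 ≠ d.1) :
    cpr cs (isCartan n) (rt a b) (rt c d) =
      ee (rt a b) c.1 * (if c.2 then 1 else -1) + ee (rt a b) d.1 * (if d.2 then 1 else -1) := cpr_rt cs _ h

theorem cpr_self' [Finite W] (a b c : Fin n × Bool) :
    cpr cs (isCartan n) (rt a b) (rt c c) = ee (rt a b) c.1 * (if c.2 then 1 else -1) := cpr_rt_self cs _ c

section sys

variable [Finite W] {R : RGD cs (isCartan n) 2 T nn X} (S : Sys R e)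

include S

/-- short roots, sum short -/
theorem br1 {i j k : Fin n} (hij : i ≠ j) (hjk : j ≠ k) (hik : i ≠ k) (s : Bool) (t u : K) :
    ⁅e (rt (i, true) (j, false)) t, e (rt (j, true) (k, s)) u⁆ = e (rt (i, true) (k, s)) (t * u) := by
  have h1 : IsRoot cs (isCartan n) (rt (i, true) (j, false)) := isRoot_rt cs (Or.inl hij)
  have h2 : IsRoot cs (isCartan n) (rt (j, true) (k, s)) := isRoot_rt cs (Or.inl hjk)
  have h3 := S.data.comm1 _ _ h1 h2 (by
    rw [cpr_ne _ _ _ _ (by simpa using hjk), ee_rt_apply, ee_rt_apply]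
    simp [hij.symm, hjk.symm, hik.symm]) (by
    rw [cpr_ne _ _ _ _ (by simpa using hij), ee_rt_apply, ee_rt_apply]
    simp [hij, hjk, hik]) t u
  rw [h3]
  congr 1
  apply ee_injective
  rw [ee_add, ee_rt, ee_rt, ee_rt]
  have : wt (j, false) = -wt ((j, true) : Fin n × Bool) := wt_ng (j, true)
  rw [this]; abel

/-- `[2ε_j, ε_i - ε_j]` -/
theorem br2 {i j : Fin n} (hij : i ≠ j) (t u : K) :
    ⁅e (rt (j, true) (j, true)) t, e (rt (i, true) (j, false)) u⁆ =
      e (rt (i, true) (j, true)) (t * u) * e (rt (i, true) (i, true)) (t * u ^ 2) := by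
  have h1 : IsRoot cs (isCartan n) (rt (j, true) (j, true)) := isRoot_rt cs (Or.inr rfl)
  have h2 : IsRoot cs (isCartan n) (rt (i, true) (j, false)) := isRoot_rt cs (Or.inl hij)
  have h3 := S.data.comm2 _ _ h1 h2 (by
    rw [cpr_ne _ _ _ _ (by simpa using hij), ee_rt_apply, ee_rt_apply]
    simp [hij]) (by
    rw [cpr_self', ee_rt_apply]
    simp [hij.symm]) t u
  rw [h3]
  have e0 : wt (j, false) = -wt ((j, true) : Fin n × Bool) := wt_ng (j, true)
  congr 2
  · apply ee_injective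
    rw [ee_add, ee_rt, ee_rt, ee_rt, e0]; abel
  · apply ee_injective
    rw [ee_add, ee_smul, ee_rt, ee_rt, ee_rt, e0, two_smul]; abel

theorem mem' {x : Fin n → ℤ} (hx : IsRoot cs (isCartan n) x) {g : Y} : g ∈ X x ↔ ∃ t, e x t = g := S.mem_X x hx g

/-- the long root group -/
theorem long_mem (hK : ∃ u : K, u ≠ 0 ∧ u ≠ 1) {i j : Fin n} (hij : i ≠ j) (c : K) :
    e (rt (i, true) (i, true)) c ∈ ⁅X (rt (j, true) (j, true)), X (rt (i, true) (j, false))⁆ := by
  obtain ⟨v, hv0, hv1⟩ := hK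
  have hL : IsRoot cs (isCartan n) (rt (j, true) (j, true)) := isRoot_rt cs (Or.inr rfl)
  have hz : IsRoot cs (isCartan n) (rt (i, true) (i, true)) := isRoot_rt cs (Or.inr rfl)
  have hS : IsRoot cs (isCartan n) (rt (i, true) (j, false)) := isRoot_rt cs (Or.inl hij)
  have h2 : (1 + v) ≠ 0 := by
    intro h
    apply hv1
    have h3 := S.data.two v
    have h4 : v + v = 1 + v := h3.trans h.symm
    exact add_right_cancel h4
  set m : K := c / (1 + v) with hm
  have hA := Subgroup.commutator_mem_commutator (S.mem hL m) (S.mem hS 1)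
  have hB := Subgroup.commutator_mem_commutator (S.mem hL (m / v)) (S.mem hS v)
  rw [br2 S hij] at hA hB
  have h5 := mul_mem (inv_mem hA) hB
  have e1 : m * 1 = m := mul_one m
  have e2 : m / v * v = m := div_mul_cancel₀ m hv0
  have e3 : m / v * v ^ 2 = m * v := by rw [pow_two, ← mul_assoc, e2]
  rw [one_pow, e1, e2, e3, mul_inv_rev, mul_assoc, inv_mul_cancel_left, S.data.inv hz, ← S.data.add _ hz] at h5
  have e4 : m + m * v = c := by rw [hm]; field_simp
  rwa [e4] at h5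

/-- the short root group -/
theorem short_mem (hK : ∃ u : K, u ≠ 0 ∧ u ≠ 1) {i j : Fin n} (hij : i ≠ j) (c : K) :
    e (rt (i, true) (j, true)) c ∈ ⁅X (rt (j, true) (j, true)), X (rt (i, true) (j, false))⁆ := by
  have hL : IsRoot cs (isCartan n) (rt (j, true) (j, true)) := isRoot_rt cs (Or.inr rfl)
  have hS : IsRoot cs (isCartan n) (rt (i, true) (j, false)) := isRoot_rt cs (Or.inl hij)
  have hA := Subgroup.commutator_mem_commutator (S.mem hL c) (S.mem hS 1)
  rw [br2 S hij, mul_one] at hA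
  have h1 := mul_mem hA (inv_mem (long_mem S hK hij (c * 1 ^ 2)))
  rwa [mul_inv_cancel_right] at h1

/-- **Generation.** -/
theorem gd (hK : ∃ u : K, u ≠ 0 ∧ u ≠ 1) : Gd X where
  a2 := by
    intro i j k hij hjk x y z ex ey ez
    obtain rfl := eq_rt ex
    obtain rfl := eq_rt ey
    obtain rfl := eq_rt ez
    intro g hg
    have hz : IsRoot cs (isCartan n) (rt (i, true) (k, false)) := isRoot_rt cs (Or.inl (hij.trans hjk).ne)
    obtain ⟨t, rfl⟩ := (mem' S hz).1 hg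
    have h1 := br1 S hij.ne hjk.ne (hij.trans hjk).ne false t 1
    rw [mul_one] at h1
    rw [← h1]
    exact Subgroup.commutator_mem_commutator (S.mem (isRoot_rt cs (Or.inl hij.ne)) _)
      (S.mem (isRoot_rt cs (Or.inl hjk.ne)) _)
  mid := by
    intro i j hij x y z t ex ey ez et
    obtain rfl := eq_rt ex
    obtain rfl := eq_rt ey
    obtain rfl := eq_rt ez
    obtain rfl := eq_rt et
    refine le_trans ?_ (le_trans le_sup_left le_sup_left)
    intro g hg
    obtain ⟨t, rfl⟩ := (mem' S (isRoot_rt cs (Or.inl hij.ne))).1 hg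
    rw [Subgroup.commutator_comm]
    exact short_mem S hK hij.ne t
  lng := by
    intro i j hij x y z t ex ey ez et
    obtain rfl := eq_rt ex
    obtain rfl := eq_rt ey
    obtain rfl := eq_rt ez
    obtain rfl := eq_rt et
    refine le_trans ?_ (le_trans le_sup_left le_sup_left)
    intro g hg
    obtain ⟨t, rfl⟩ := (mem' S (isRoot_rt cs (Or.inr rfl))).1 hg
    rw [Subgroup.commutator_comm]
    exact long_mem S hK hij.ne t

/-- the short root groups do not commute -/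
theorem nas : NAS X := by
  intro i j k hij hjk x y ex ey h0
  have ey' : ee y = wt (k, true) + wt (j, true) := by rw [ey, add_comm]
  obtain rfl := eq_rt ex
  obtain rfl := eq_rt ey'
  have h1 := Subgroup.commutator_mem_commutator
    (S.mem (isRoot_rt cs (Or.inl (hij.trans hjk).ne) : IsRoot cs (isCartan n) (rt (i, true) (k, false))) 1)
    (S.mem (isRoot_rt cs (Or.inl hjk.ne') : IsRoot cs (isCartan n) (rt (k, true) (j, true))) 1)
  rw [br1 S (hij.trans hjk).ne hjk.ne' hij.ne true, h0, Subgroup.mem_bot, mul_one] at h1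
  exact one_ne_zero (S.data.inj _ (isRoot_rt cs (Or.inl hij.ne)) _ h1)

end sys

/-! ### The orbits -/

theorem rep_rt (i : Fin n) (a b : Fin n × Bool) :
    rep cs (isCartan n) (cs.simple i) (rt a b) = rt (sg i a) (sg i b) := by
  apply ee_injective
  rw [rep_simple, ee_rt]
  exact ee_refl_of (ee_rt a b)

theorem simple_mem_WJ {J : Set (Fin n)} {i : Fin n} (hi : i ∈ J) : cs.simple i ∈ WJ cs J :=
  Subgroup.subset_closure ⟨i, hi, rfl⟩

/-- the orbit of the last node: `2 ε_m` -/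
theorem orbL (l : Fin n) (hl : (l : ℕ) + 1 = n) (d : ℕ) : ∀ m : Fin n, (m : ℕ) + d + 1 = n →
    ∃ v ∈ WJ cs ({l}ᶜ : Set (Fin n)), rt (m, true) (m, true) = rep cs (isCartan n) v (sr l) := by
  induction d with
  | zero =>
    intro m hm
    have h1 : m = l := Fin.ext (by omega)
    subst h1
    refine ⟨1, one_mem _, ?_⟩
    rw [map_one, Module.End.one_apply, sr_eq_rt, nx, dif_neg (by omega)]
  | succ d ih =>
    intro m hm
    have hm1 : (m : ℕ) + 1 < n := by omega
    obtain ⟨v, hv, h1⟩ := ih ⟨m + 1, hm1⟩ (by simp only; omega)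
    refine ⟨cs.simple m * v, mul_mem (simple_mem_WJ ?_) hv, ?_⟩
    · intro h2
      have h3 : m = l := h2
      subst h3
      omega
    · rw [rep_mul_apply, ← h1, rep_rt, sg_down hm1]

/-- the orbit of the node `0`: `ε_0 - ε_k` -/
theorem orbS (o : Fin n) (ho : (o : ℕ) = 0) (d : ℕ) : ∀ k : Fin n, (k : ℕ) = d + 1 →
    ∃ v ∈ WJ cs ({o}ᶜ : Set (Fin n)), rt (o, true) (k, false) = rep cs (isCartan n) v (sr o) := by
  induction d with
  | zero =>
    intro k hk
    refine ⟨1, one_mem _, ?_⟩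
    have h1 : (o : ℕ) + 1 < n := by have := k.2; omega
    rw [map_one, Module.End.one_apply, sr_eq_rt, nx, dif_pos h1]
    congr 2
    exact Fin.ext (by simp only; omega)
  | succ d ih =>
    intro k hk
    have hk' : d + 1 < n := by have := k.2; omega
    obtain ⟨v, hv, h1⟩ := ih ⟨d + 1, hk'⟩ rfl
    refine ⟨cs.simple ⟨d + 1, hk'⟩ * v, mul_mem (simple_mem_WJ ?_) hv, ?_⟩
    · intro h2
      have h3 : (⟨d + 1, hk'⟩ : Fin n) = o := h2
      have h4 := congrArg Fin.val h3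
      simp only at h4
      omega
    · have h3 : ((⟨d + 1, hk'⟩ : Fin n) : ℕ) + 1 < n := by have := k.2; simp only; omega
      rw [rep_mul_apply, ← h1, rep_rt, sg_up h3, sg_of_ne]
      · congr 2
        exact Fin.ext hk
      · intro h4
        have := congrArg Fin.val h4
        simp only at this
        omega
      · simp only; omega

/-- the orbit of the node `0`: `ε_0 + ε_k` -/
theorem orbS' (o : Fin n) (ho : (o : ℕ) = 0) (d : ℕ) : ∀ k : Fin n, 0 < (k : ℕ) → (k : ℕ) + d + 1 = n →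
    ∃ v ∈ WJ cs ({o}ᶜ : Set (Fin n)), rt (o, true) (k, true) = rep cs (isCartan n) v (sr o) := by
  induction d with
  | zero =>
    intro k hk0 hk
    obtain ⟨v, hv, h1⟩ := orbS (cs := cs) o ho ((k : ℕ) - 1) k (by omega)
    refine ⟨cs.simple k * v, mul_mem (simple_mem_WJ ?_) hv, ?_⟩
    · intro h2
      have h3 : k = o := h2
      subst h3
      omega
    · have h3 : ¬ (k : ℕ) + 1 < n := by omega
      rw [rep_mul_apply, ← h1, rep_rt, sg_last h3, sg_of_ne]
      · rfl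
      · intro h4
        have := congrArg Fin.val h4
        simp only at this
        omega
      · simp only; omega
  | succ d ih =>
    intro k hk0 hk
    have hk1 : (k : ℕ) + 1 < n := by omega
    obtain ⟨v, hv, h1⟩ := ih ⟨k + 1, hk1⟩ (by simp only; omega) (by simp only; omega)
    refine ⟨cs.simple k * v, mul_mem (simple_mem_WJ ?_) hv, ?_⟩
    · intro h2
      have h3 : k = o := h2
      subst h3
      omega
    · rw [rep_mul_apply, ← h1, rep_rt, sg_down hk1, sg_of_ne]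
      · intro h4
        have := congrArg Fin.val h4
        simp only at this
        omega
      · simp only; omega

/-! ### The theorem -/

theorem comm_zero [Finite W] {R : RGD cs (isCartan n) 2 T nn X} (S : Sys R e) {x y : Fin n → ℤ}
    (hx : IsRoot cs (isCartan n) x) (hy : IsRoot cs (isCartan n) y) (hc : cpr cs (isCartan n) x y = 0) :
    ∀ u ∈ X x ⊔ X (-x), ∀ v ∈ X y, u * v = v * u := by
  have h1 : ∀ z, IsRoot cs (isCartan n) z → cpr cs (isCartan n) z y = 0 → X z ≤ Subgroup.centralizer (X y : Set Y) := by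
    intro z hz hc g hg
    rw [Subgroup.mem_centralizer_iff]
    intro v hv
    obtain ⟨t, rfl⟩ := (mem' S hz).1 hg
    obtain ⟨s, rfl⟩ := (mem' S hy).1 hv
    exact (S.data.comm_of_nonneg hz hy hc.ge t s).symm
  have h2 : X x ⊔ X (-x) ≤ Subgroup.centralizer (X y : Set Y) := by
    refine sup_le (h1 x hx hc) (h1 (-x) hx.neg ?_)
    rw [cpr_neg cs _ _ hy, hc, neg_zero]
  intro u hu v hv
  exact (Subgroup.mem_centralizer_iff.1 (h2 hu) v hv).symm

/-- **`PSp_{2n}(q)`, `q ≥ 4` even: no row.** -/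
theorem false_of_sys [Finite Y] {V : Type*} [AddCommGroup V] [Module (ZMod 2) V] {ρ : Y →* (V ≃ₗ[ZMod 2] V)}
    {b : LinearMap.BilinForm (ZMod 2) V} {a : V} {D : Submodule (ZMod 2) V} {X0 : Subgroup Y} {w m : ℕ} (hn : 2 ≤ n)
    (R : Row cs (isCartan n) T nn X ρ b a D X0 w) (S : Sys R.rgd e) (hm : 2 ≤ m) (hK : Nat.card K = 2 ^ m) :
    False := by
  have hfin : Finite W := finite_W cs
  have hKf : Finite K := Nat.finite_of_card_ne_zero (by rw [hK]; positivity)
  have h4 : 4 ≤ Nat.card K := by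
    rw [hK]
    calc 4 = 2 ^ 2 := by norm_num
      _ ≤ 2 ^ m := Nat.pow_le_pow_right (by norm_num) hm
  have hu : ∃ u : K, u ≠ 0 ∧ u ≠ 1 := by
    classical
    have := Fintype.ofFinite K
    rw [Nat.card_eq_fintype_card] at h4
    by_contra hcon
    push Not at hcon
    have h5 : (Finset.univ : Finset K) ⊆ {0, 1} := by
      intro u _
      by_cases hu : u = 0
      · simp [hu]
      · simp [hcon u hu]
    have h6 := Finset.card_le_card h5
    have h7 : ({0, 1} : Finset K).card ≤ 2 := Finset.card_le_two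
    rw [Finset.card_univ] at h6
    omega
  have hX : X0 = VJ cs (isCartan n) X (Mv ρ nn a)ᶜ := by
    refine eq_VJ R (ThmA.thmA R.core (le_refl _)) ?_
    intro x hx h0 hs
    exact (gd S hu).gen cs hx h0 hs
  obtain ⟨k, hk⟩ := mv_nonempty R
  have hone : Mv ρ nn a = {k} := by
    ext l
    constructor
    · intro hl; exact mv_one R hX (nas S) hl hk
    · rintro rfl; exact hk
  have hcard : ∀ x, IsRoot cs (isCartan n) x → Nat.card (X x) = 2 ^ m := by
    intro x hx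
    rw [← hK]
    refine (Nat.card_congr (Equiv.ofBijective (fun t : K => (⟨e x t, S.mem hx t⟩ : X x)) ⟨?_, ?_⟩)).symm
    · intro t u htu
      exact S.data.injective hx (congrArg Subtype.val htu)
    · rintro ⟨g, hg⟩
      obtain ⟨t, rfl⟩ := (mem' S hx).1 hg
      exact ⟨t, rfl⟩
  have fin : ∀ x y : Fin n → ℤ, IsRoot cs (isCartan n) x → IsRoot cs (isCartan n) y → 0 ≤ x → 0 ≤ y →
      0 < x k → 0 < y k → (∃ v ∈ WJ cs (Mv ρ nn a)ᶜ, ∃ i ∈ Mv ρ nn a, x = rep cs (isCartan n) v (sr i)) →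
      (∃ v ∈ WJ cs (Mv ρ nn a)ᶜ, ∃ i ∈ Mv ρ nn a, y = rep cs (isCartan n) v (sr i)) →
      cpr cs (isCartan n) x y = 0 → False := by
    intro x y hx hy hx0 hy0 hxk hyk hx1 hy1 hc
    have h5 := Orth.sum_le_three R [x, y] (fun _ => m)
      (by
        intro z hz
        simp only [List.mem_cons, List.not_mem_nil, or_false] at hz
        rcases hz with rfl | rfl
        · exact hx1
        · exact hy1)
      (by
        intro z hz
        simp only [List.mem_cons, List.not_mem_nil, or_false] at hz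
        rw [hX]
        rcases hz with rfl | rfl
        · exact X_le_VJ ⟨hx, hx0⟩ hk hxk
        · exact X_le_VJ ⟨hy, hy0⟩ hk hyk)
      (by
        intro z hz
        simp only [List.mem_cons, List.not_mem_nil, or_false] at hz
        rcases hz with rfl | rfl
        · exact hcard _ hx
        · exact hcard _ hy)
      (by
        rw [List.pairwise_pair]
        exact comm_zero S hx hy hc)
    simp only [List.map_cons, List.map_nil, List.sum_cons, List.sum_nil] at h5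
    omega
  have h0n : 0 < n := by omega
  have h1n : 1 < n := by omega
  set o : Fin n := ⟨0, h0n⟩ with ho
  set p : Fin n := ⟨1, h1n⟩ with hp
  have hop : o ≠ p := by rw [ho, hp]; simp
  have hlt : o < p := by rw [Fin.lt_def]; simp [ho, hp]
  rcases mv_int R hX (nas S) hk with hk0 | hk1
  · -- the node `0`
    have hko : k = o := Fin.ext hk0
    subst hko
    obtain ⟨v, hv, e1⟩ := orbS (cs := cs) o hk0 0 p rfl
    obtain ⟨v', hv', e2⟩ := orbS' (cs := cs) o hk0 (n - 2) p (by simp [hp]) (by simp only [hp]; omega)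
    refine fin (rt (o, true) (p, false)) (rt (o, true) (p, true)) (isRoot_rt cs (Or.inl hop)) (isRoot_rt cs (Or.inl hop))
      (TwC.nonneg_of (ee_rt _ _) rfl hlt.le) (TwC.nonneg_of (ee_rt _ _) rfl hlt.le)
      (pos_sub (ee_rt _ _) le_rfl hlt) (pos_add (ee_rt _ _) le_rfl) ?_ ?_ ?_
    · rw [hone]; exact ⟨v, hv, o, rfl, e1⟩
    · rw [hone]; exact ⟨v', hv', o, rfl, e2⟩
    · rw [cpr_ne _ _ _ _ (by simpa using hop), ee_rt_apply, ee_rt_apply]
      simp [hop, hop.symm]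
  · obtain ⟨v, hv, e1⟩ := orbL (cs := cs) k hk1 (n - 1) o (by simp only [ho]; omega)
    obtain ⟨v', hv', e2⟩ := orbL (cs := cs) k hk1 (n - 2) p (by simp only [hp]; omega)
    have hok : o ≤ k := by rw [Fin.le_def]; simp [ho]
    have hpk : p ≤ k := by rw [Fin.le_def]; simp only [hp]; omega
    refine fin (rt (o, true) (o, true)) (rt (p, true) (p, true)) (isRoot_rt cs (Or.inr rfl)) (isRoot_rt cs (Or.inr rfl))
      (TwC.nonneg_of (ee_rt _ _) rfl le_rfl) (TwC.nonneg_of (ee_rt _ _) rfl le_rfl)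
      (pos_add (ee_rt _ _) hok) (pos_add (ee_rt _ _) hpk) ?_ ?_ ?_
    · rw [hone]; exact ⟨v, hv, k, rfl, e1⟩
    · rw [hone]; exact ⟨v', hv', k, rfl, e2⟩
    · rw [cpr_self', ee_rt_apply]
      simp [hop.symm]

end Cfsg.Agent.Omega.EH3.Kf.SpBig

end
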